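import Cfsg.Agent.Lib.Balance.ConnectedFunctor
import Cfsg.Agent.Lib.SectRank.Constrained
import Cfsg.Agent.Lib.Minimal.SmallTwo

/-!
Odd cores of involution centralisers in a group with 2-constrained 2-locals and a normal elementary
abelian subgroup of order eight in a Sylow 2-subgroup: their common closure `W`.
The completeness of solvable signalizer functors and the solvability of groups of odd order enter as
hypotheses.
-/

set_option autoImplicit false
set_option linter.style.haveILetI false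
set_option linter.unusedSectionVars false

namespace CfsgLib.Signalizer.ScnThree

open Cfsg CfsgLib.Balance

variable {G : Type*} [Group G] [Finite G]

local notation "θ" => Cfsg.centralizerPPrimeCore 2

/-- The subgroup generated by the odd cores of the centralisers of the nonidentity elements of `B`. -/
def coresOf (B : Subgroup G) : Subgroup G := ⨆ b : {b : G // b ∈ B ∧ b ≠ 1}, θ (b : G)

theorem le_coresOf {B : Subgroup G} {b : G} (hb : b ∈ B) (hb1 : b ≠ 1) : θ b ≤ coresOf B :=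
  le_iSup (fun b : {b : G // b ∈ B ∧ b ≠ 1} => θ (b : G)) ⟨b, hb, hb1⟩

theorem coresOf_mono {B C : Subgroup G} (h : B ≤ C) : coresOf B ≤ coresOf C :=
  iSup_le fun b => le_coresOf (h b.2.1) b.2.2

theorem map_conj_coresOf_le {B : Subgroup G} {g : G} (hg : ∀ b ∈ B, g * b * g⁻¹ ∈ B) :
    (coresOf B).map (MulAut.conj g).toMonoidHom ≤ coresOf B := by
  rw [coresOf, Subgroup.map_iSup]
  refine iSup_le fun b => ?_
  rw [map_centralizerPPrimeCore (p := 2) (MulAut.conj g) (b : G)]
  exact le_coresOf (hg b b.2.1) fun h => b.2.2 (conj_eq_one_iff.1 h)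

theorem le_normalizer_coresOf (B : Subgroup G) :
    Subgroup.normalizer (B : Set G) ≤ Subgroup.normalizer (coresOf B : Set G) := by
  intro g hg
  have hmap := map_conj_coresOf_le (B := B) (g := g)
    fun b hb => (Subgroup.mem_normalizer_iff.1 hg b).1 hb
  have heq : (coresOf B).map (MulAut.conj g).toMonoidHom = coresOf B :=
    Subgroup.eq_of_le_of_card_ge hmap
      (Subgroup.card_map_of_injective (f := (MulAut.conj g).toMonoidHom) (MulAut.conj g).injective).ge
  refine Subgroup.mem_normalizer_iff.2 fun x => ⟨fun hx => hmap ⟨x, hx, rfl⟩, fun hx => ?_⟩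
  rw [← heq] at hx
  obtain ⟨y, hy, hyx⟩ := hx
  have h' : g * y * g⁻¹ = g * x * g⁻¹ := hyx
  rwa [← mul_left_cancel (mul_right_cancel h')]

theorem card_le_centralizer_mul {X : Subgroup G} (hc : ∀ a ∈ X, ∀ b ∈ X, a * b = b * a)
    {t : G} (ht : t * t = 1) (htX : ∀ x ∈ X, t * x * t⁻¹ ∈ X) (hsq : ∀ x ∈ X, x * x = 1) :
    Nat.card X ≤ Nat.card ↥(X ⊓ Subgroup.centralizer ({t} : Set G)) *
      Nat.card ↥(X ⊓ Subgroup.centralizer ({t} : Set G)) := by
  set C := X ⊓ Subgroup.centralizer ({t} : Set G)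
  let f : X →* G := MonoidHom.mk' (fun x => (x : G) * (t * x * t⁻¹)) fun x y => by
    show (x : G) * y * (t * ((x : G) * y) * t⁻¹) = x * (t * x * t⁻¹) * (y * (t * y * t⁻¹))
    calc (x : G) * y * (t * ((x : G) * y) * t⁻¹) = x * ((y : G) * (t * x * t⁻¹)) * (t * y * t⁻¹) := by
          group
      _ = x * ((t * x * t⁻¹) * y) * (t * y * t⁻¹) := by rw [hc _ y.2 _ (htX _ x.2)]
      _ = _ := by group
  have hrange : f.range ≤ C := by
    rintro _ ⟨x, rfl⟩
    refine ⟨mul_mem x.2 (htX _ x.2), Subgroup.mem_centralizer_singleton_iff.2 ?_⟩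
    show (x : G) * (t * x * t⁻¹) * t = t * ((x : G) * (t * x * t⁻¹))
    have hti : t⁻¹ = t := inv_eq_of_mul_eq_one_right ht
    calc (x : G) * (t * x * t⁻¹) * t = x * t * x := by group
      _ = (t * x * t⁻¹) * (t * x * t⁻¹) * (x * t * x) := by rw [hsq _ (htX _ x.2), one_mul]
      _ = (t * x * t⁻¹) * ((t * x * t⁻¹) * x) * t * x := by group
      _ = (t * x * t⁻¹) * (x * (t * x * t⁻¹)) * t * x := by rw [hc _ (htX _ x.2) _ x.2]
      _ = (t * x * t⁻¹) * x * t * ((x : G) * x) := by group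
      _ = t * ((x : G) * (t * x * t⁻¹)) * (t * t) := by
        rw [hsq _ x.2, mul_one, hti, ← mul_assoc t (x : G)]; simp only [mul_assoc]; rw [ht]; simp [mul_assoc]
      _ = _ := by rw [ht, mul_one]
  have hker : f.ker ≤ C.subgroupOf X := by
    intro x hx
    refine Subgroup.mem_subgroupOf.2 ⟨x.2, Subgroup.mem_centralizer_singleton_iff.2 ?_⟩
    have h1 : (x : G) * (t * x * t⁻¹) = 1 := hx
    have h2 : t * (x : G) * t⁻¹ = x := by
      rw [← inv_eq_of_mul_eq_one_right h1, inv_eq_of_mul_eq_one_right (hsq _ x.2)]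
    exact (mul_inv_eq_iff_eq_mul.1 h2).symm
  rw [Subgroup.card_eq_card_quotient_mul_card_subgroup f.ker,
    Nat.card_congr (QuotientGroup.quotientKerEquivRange f).toEquiv]
  refine Nat.mul_le_mul (Subgroup.card_le_of_le hrange) ((Subgroup.card_le_of_le hker).trans ?_)
  rw [Nat.card_congr (Subgroup.subgroupOfEquivOfLe (inf_le_left : C ≤ X)).toEquiv]

/-- A normal elementary abelian subgroup of order at least eight in a Sylow 2-subgroup, together with the
hypotheses on the group. -/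
structure Setting (S : Sylow 2 G) (E : Subgroup G) : Prop where
  sub : E ≤ (S : Subgroup G)
  norm : ∀ s ∈ (S : Subgroup G), ∀ e ∈ E, s * e * s⁻¹ ∈ E
  elem : IsElementaryAbelian 2 E
  big : 8 ≤ Nat.card E
  bal : ∀ a b : G, a * a = 1 → orderOf b = 2 → a * b = b * a →
    centralizerPPrimeCore 2 a ⊓ Subgroup.centralizer ({b} : Set G) ≤ centralizerPPrimeCore 2 b
  solv : ∀ H : Subgroup G, Odd (Nat.card H) → Group.IsSolvable H
  sft : SolvableFunctorsComplete 2 G

variable {S : Sylow 2 G} {E : Subgroup G}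

theorem odd_card_theta (a : G) : Odd (Nat.card (θ a)) := by
  haveI : Fact (Nat.Prime 2) := ⟨Nat.prime_two⟩
  exact Nat.not_even_iff_odd.1 fun h =>
    not_dvd_card_centralizerPPrimeCore (p := 2) a (even_iff_two_dvd.1 h)

theorem sq_of_elem {A : Subgroup G} (hA : IsElementaryAbelian 2 A) {a : G} (ha : a ∈ A) : a * a = 1 := by
  rw [← pow_two]; exact hA.2 a ha

theorem det (h : Setting S E) {A : Subgroup G} (hA : IsElementaryAbelian 2 A) (h8 : 8 ≤ Nat.card A) :
    ∃ X : Subgroup G, Odd (Nat.card X) ∧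
      (∀ U : Subgroup G, U ≤ A → 4 ≤ Nat.card U → coresOf U = X) ∧
      ∀ a ∈ A, a ≠ 1 → X ⊓ Subgroup.centralizer ({a} : Set G) = θ a := by
  haveI : Fact (Nat.Prime 2) := ⟨Nat.prime_two⟩
  have hord : ∀ a ∈ A, a ≠ 1 → orderOf a = 2 := fun a ha ha1 => elemAb_orderOf hA ha ha1
  have hfun : IsSolvableSignalizerFunctor 2 A θ := by
    refine ⟨⟨fun a _ _ => centralizerPPrimeCore_le_centralizer 2 a,
      fun a _ _ => not_dvd_card_centralizerPPrimeCore a, fun a ha _ b hb x hx => ?_,
      fun a ha _ b hb hb1 => ?_⟩, fun a _ _ => h.solv _ (odd_card_theta a)⟩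
    · exact (Subgroup.mem_normalizer_iff.1 (centralizer_le_normalizer_centralizerPPrimeCore 2 a
        (Subgroup.mem_centralizer_singleton_iff.2 (elemAb_comm hA hb ha))) x).1 hx
    · exact h.bal a b (sq_of_elem hA ha) (hord b hb hb1) (elemAb_comm hA ha hb)
  obtain ⟨-, X, hXA, hXp, hX⟩ := h.sft A θ hA (by norm_num; exact h8) hfun
  refine ⟨X, Nat.not_even_iff_odd.1 fun he => hXp (even_iff_two_dvd.1 he), fun U hUA hU4 => ?_, hX⟩
  have hUe := elemAb_of_le hA hUA
  haveI := hUe.1
  refine le_antisymm (iSup_le fun u => ?_) ?_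
  · rw [← hX _ (hUA u.2.1) u.2.2]
    exact inf_le_left
  · refine CfsgLib.CoprimeAction.le_of_centralizers (A := U) (K := X) (H := coresOf U)
      (elemAb_not_isCyclic hUe (by norm_num; exact hU4))
      (fun (u : G) (hu : u ∈ U) =>
        CfsgLib.CoprimeAction.mem_normalizer_of_conj_mem (G := G) (hXA u (hUA hu)))
      (elemAb_coprime hUe hXp) fun u hu hu1 => ?_
    rw [hX u (hUA hu) hu1]
    exact le_coresOf hu hu1

theorem odd_card_coresOf (h : Setting S E) : Odd (Nat.card (coresOf E)) := by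
  obtain ⟨X, hX, hU, -⟩ := det h h.elem h.big
  rw [hU E le_rfl (by have := h.big; omega)]; exact hX

theorem coresOf_eq_of_le (h : Setting S E) {U : Subgroup G} (hU : U ≤ E) (h4 : 4 ≤ Nat.card U) :
    coresOf U = coresOf E := by
  obtain ⟨X, -, hX, -⟩ := det h h.elem h.big
  rw [hX U hU h4, hX E le_rfl (by have := h.big; omega)]

theorem four_le_centralizer (h : Setting S E) {t : G} (htS : t ∈ (S : Subgroup G)) (ht : t * t = 1) :
    4 ≤ Nat.card ↥(E ⊓ Subgroup.centralizer ({t} : Set G)) := by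
  haveI : Fact (Nat.Prime 2) := ⟨Nat.prime_two⟩
  have h1 := card_le_centralizer_mul (X := E) (fun a ha b hb => elemAb_comm h.elem ha hb) ht
    (fun x hx => h.norm t htS x hx) (fun x hx => sq_of_elem h.elem hx)
  obtain ⟨k, hk⟩ := IsPGroup.iff_card.1
    (elemAb_isPGroup (elemAb_of_le h.elem (inf_le_left : E ⊓ Subgroup.centralizer ({t} : Set G) ≤ E)))
  rw [hk] at h1 ⊢
  have h2 := h.big
  rcases k with _ | _ | k
  · simp at h1; omega
  · simp at h1; omega
  · calc 4 = 2 ^ 2 := by norm_num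
      _ ≤ 2 ^ (k + 2) := Nat.pow_le_pow_right (by norm_num) (by omega)

theorem coresOf_eq_of_centralized (h : Setting S E) {U : Subgroup G} (hU : IsElementaryAbelian 2 U)
    (hU4 : 4 ≤ Nat.card U)
    (hE : 4 ≤ Nat.card ↥(E ⊓ Subgroup.centralizer (U : Set G))) : coresOf U = coresOf E := by
  set E₁ := E ⊓ Subgroup.centralizer (U : Set G)
  have hA : IsElementaryAbelian 2 (U ⊔ E₁ : Subgroup G) :=
    isElementaryAbelian_sup hU (elemAb_of_le h.elem inf_le_left) fun u hu e he =>
      Subgroup.mem_centralizer_iff.1 he.2 u hu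
  by_cases h8 : 8 ≤ Nat.card ↥(U ⊔ E₁)
  · obtain ⟨X, -, hX, -⟩ := det h hA h8
    rw [hX U le_sup_left hU4, ← hX E₁ le_sup_right hE]
    exact coresOf_eq_of_le h inf_le_left hE
  · haveI : Fact (Nat.Prime 2) := ⟨Nat.prime_two⟩
    obtain ⟨k, hk⟩ := IsPGroup.iff_card.1 (elemAb_isPGroup hA)
    rw [hk] at h8
    have hle : Nat.card ↥(U ⊔ E₁) ≤ 4 := by
      rw [hk]
      calc 2 ^ k ≤ 2 ^ 2 := Nat.pow_le_pow_right (by norm_num) (by
            by_contra hk2
            exact h8 (le_trans (by norm_num : (8 : ℕ) ≤ 2 ^ 3) (Nat.pow_le_pow_right (by norm_num) (by omega))))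
        _ = 4 := by norm_num
    have h1 := Subgroup.eq_of_le_of_card_ge (le_sup_left : U ≤ U ⊔ E₁) (hle.trans hU4)
    have h2 := Subgroup.eq_of_le_of_card_ge (le_sup_right : E₁ ≤ U ⊔ E₁) (hle.trans hE)
    rw [h1.trans h2.symm]
    exact coresOf_eq_of_le h inf_le_left hE

open CfsgLib.Minimal.SmallTwo in
theorem isElementaryAbelian_four {x y : G} (hx : x * x = 1) (hy : y * y = 1) (hxy : x * y = y * x)
    (hx1 : x ≠ 1) (hy1 : y ≠ 1) (hne : x ≠ y) :
    IsElementaryAbelian 2 (fourOf hx hy hxy) ∧ Nat.card ↥(fourOf hx hy hxy) = 4 :=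
  have h4 := isFour_fourOf hx hy hxy hx1 hy1 hne
  ⟨⟨⟨⟨fun a b => Subtype.ext (h4.comm a.2 b.2)⟩⟩, fun a ha => by rw [pow_two]; exact h4.sq a ha⟩,
    h4.card⟩

theorem exists_ne_ne {X : Subgroup G} (h : 4 ≤ Nat.card X) (a : G) : ∃ x ∈ X, x ≠ 1 ∧ x ≠ a := by
  by_contra! hcon
  have h1 : (X : Set G) ⊆ {1, a} := fun x hx => or_iff_not_imp_left.2 (hcon x hx)
  have h2 := (Set.ncard_le_ncard h1).trans (Set.ncard_insert_le _ _)
  rw [Set.ncard_singleton, ← Nat.card_coe_set_eq] at h2
  change Nat.card X ≤ 2 at h2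
  omega

open CfsgLib.Minimal.SmallTwo in
theorem coresOf_four (h : Setting S E) {t u : G} (htS : t ∈ (S : Subgroup G)) (huS : u ∈ (S : Subgroup G))
    (ht : t * t = 1) (hu : u * u = 1) (htu : t * u = u * t) (ht1 : t ≠ 1) (hu1 : u ≠ 1) (hne : t ≠ u) :
    coresOf (fourOf ht hu htu) = coresOf E := by
  obtain ⟨hUe, hU4⟩ := isElementaryAbelian_four ht hu htu ht1 hu1 hne
  have hc : ∀ (x y : G) (hx : x * x = 1) (hy : y * y = 1) (hxy : x * y = y * x) (g : G),
      g * x = x * g → g * y = y * g →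
      g ∈ Subgroup.centralizer (fourOf hx hy hxy : Set G) := by
    intro x y hx hy hxy g h1 h2
    refine Subgroup.mem_centralizer_iff.2 fun w hw => ?_
    rcases hw with rfl | rfl | rfl | rfl
    · simp
    · exact h1.symm
    · exact h2.symm
    · calc x * y * g = x * (g * y) := by rw [h2]; group
        _ = g * (x * y) := by rw [← mul_assoc, ← h1]; group
  by_cases hbig : 4 ≤ Nat.card ↥(E ⊓ Subgroup.centralizer (fourOf ht hu htu : Set G))
  · exact coresOf_eq_of_centralized h hUe hU4.ge hbig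
  -- an involution of `E` centralizing `t` and `u`
  have ht4 := four_le_centralizer h htS ht
  set F := E ⊓ Subgroup.centralizer ({t} : Set G)
  obtain ⟨e, heF, he1, heu⟩ : ∃ e ∈ F, e ≠ 1 ∧ u * e = e * u := by
    have huF : ∀ x ∈ F, u * x * u⁻¹ ∈ F := fun x hx =>
      ⟨h.norm u huS x hx.1, Subgroup.mem_centralizer_singleton_iff.2 (by
        have h1 : x * t = t * x := Subgroup.mem_centralizer_singleton_iff.1 hx.2
        calc u * x * u⁻¹ * t = u * x * (u⁻¹ * (t * u)) * u⁻¹ := by group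
          _ = u * (x * t) * u⁻¹ := by rw [htu]; group
          _ = (u * t) * x * u⁻¹ := by rw [h1]; group
          _ = t * (u * x * u⁻¹) := by rw [← htu]; group)⟩
    have h1 := card_le_centralizer_mul (X := F) (fun a ha b hb => elemAb_comm h.elem ha.1 hb.1) hu
      huF (fun x hx => sq_of_elem h.elem hx.1)
    by_contra! hcon
    have hbot : F ⊓ Subgroup.centralizer ({u} : Set G) = ⊥ := (Subgroup.eq_bot_iff_forall _).2
      fun x hx => by
        by_contra hx1
        exact hcon x hx.1 hx1 (Subgroup.mem_centralizer_singleton_iff.1 hx.2).symm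
    rw [hbot, Subgroup.card_bot] at h1
    omega
  have het : e * t = t * e := Subgroup.mem_centralizer_singleton_iff.1 heF.2
  have hee : e * e = 1 := sq_of_elem h.elem heF.1
  have heS : e ∈ (S : Subgroup G) := h.sub heF.1
  have hbigt : t ≠ e → 4 ≤ Nat.card ↥(E ⊓ Subgroup.centralizer (fourOf ht hee het.symm : Set G)) :=
    fun _ => ht4.trans (Subgroup.card_le_of_le fun x hx => ⟨hx.1, hc t e ht hee het.symm x
      (Subgroup.mem_centralizer_singleton_iff.1 hx.2) (elemAb_comm h.elem hx.1 heF.1)⟩)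
  have heU : e ∉ fourOf ht hu htu := by
    intro he
    apply hbig
    rcases he with he | he | he | he
    · exact absurd he he1
    · subst he
      exact (four_le_centralizer h huS hu).trans (Subgroup.card_le_of_le fun x hx => ⟨hx.1,
        hc _ _ _ _ _ x (elemAb_comm h.elem hx.1 heF.1) (Subgroup.mem_centralizer_singleton_iff.1 hx.2)⟩)
    · subst he
      exact ht4.trans (Subgroup.card_le_of_le fun x hx => ⟨hx.1,
        hc _ _ _ _ _ x (Subgroup.mem_centralizer_singleton_iff.1 hx.2) (elemAb_comm h.elem hx.1 heF.1)⟩)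
    · subst he
      refine ht4.trans (Subgroup.card_le_of_le fun x hx => ⟨hx.1, hc _ _ _ _ _ x
        (Subgroup.mem_centralizer_singleton_iff.1 hx.2) ?_⟩)
      have h1 : x * t = t * x := Subgroup.mem_centralizer_singleton_iff.1 hx.2
      have h2 : x * (t * u) = t * u * x := elemAb_comm h.elem hx.1 heF.1
      refine mul_left_cancel (a := t) ?_
      calc t * (x * u) = x * (t * u) := by rw [← mul_assoc, ← h1, mul_assoc]
        _ = _ := by rw [h2, mul_assoc]
  have hte : t ≠ e := fun hte => heU (hte ▸ (mem_fourOf ht hu htu).1)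
  obtain ⟨hVe, hV4⟩ := isElementaryAbelian_four ht hee het.symm ht1 he1 hte
  have hAe : IsElementaryAbelian 2 (fourOf ht hu htu ⊔ fourOf ht hee het.symm : Subgroup G) :=
    isElementaryAbelian_sup hUe hVe fun x hx y hy => by
      refine (Subgroup.mem_centralizer_iff.1 (hc t u ht hu htu y ?_ ?_) x hx)
      · rcases hy with rfl | rfl | rfl | rfl <;> simp [mul_assoc, ht, het]
      · rcases hy with rfl | rfl | rfl | rfl
        · simp
        · exact htu
        · exact heu.symm
        · calc t * e * u = t * (u * e) := by rw [heu, mul_assoc]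
            _ = u * (t * e) := by rw [← mul_assoc, htu, mul_assoc]
  have h8 : 8 ≤ Nat.card ↥(fourOf ht hu htu ⊔ fourOf ht hee het.symm) := by
    have hlt : fourOf ht hu htu < fourOf ht hu htu ⊔ fourOf ht hee het.symm :=
      SetLike.lt_iff_le_and_exists.2 ⟨le_sup_left, e,
        Subgroup.mem_sup_right (mem_fourOf ht hee het.symm).2, heU⟩
    have h1 := Set.ncard_lt_ncard (show ((fourOf ht hu htu : Subgroup G) : Set G) ⊂ _ from hlt)
    rw [← Nat.card_coe_set_eq, ← Nat.card_coe_set_eq] at h1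
    have h2 := Subgroup.card_dvd_of_le (hlt.le)
    change Nat.card ↥(fourOf ht hu htu) < Nat.card ↥(fourOf ht hu htu ⊔ fourOf ht hee het.symm) at h1
    rw [hU4] at h1 h2
    obtain ⟨k, hk⟩ := h2
    omega
  obtain ⟨X, -, hX, -⟩ := det h hAe h8
  rw [hX _ le_sup_left hU4.ge, ← hX _ le_sup_right hV4.ge]
  exact coresOf_eq_of_centralized h hVe hV4.ge (hbigt hte)

open CfsgLib.Minimal.SmallTwo in
theorem theta_le_of_involution (h : Setting S E) {z : G} (hzS : z ∈ (S : Subgroup G))
    (hz : z * z = 1) (hz1 : z ≠ 1) : θ z ≤ coresOf E := by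
  obtain ⟨e, he, he1, hez⟩ := exists_ne_ne (four_le_centralizer h hzS hz) z
  have hee : e * e = 1 := sq_of_elem h.elem he.1
  have hec : z * e = e * z := (Subgroup.mem_centralizer_singleton_iff.1 he.2).symm
  rw [← coresOf_four h hzS (h.sub he.1) hz hee hec hz1 he1 (Ne.symm hez)]
  exact le_coresOf (mem_fourOf hz hee hec).1 hz1

theorem theta_le (h : Setting S E)
    (hcon : ∀ b : G, orderOf b = 2 → IsPConstrained 2 ↥(Subgroup.centralizer ({b} : Set G))) {b : G} (hbS : b ∈ (S : Subgroup G)) (hb1 : b ≠ 1) :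
    θ b ≤ coresOf E := by
  haveI : Fact (Nat.Prime 2) := ⟨Nat.prime_two⟩
  obtain ⟨k, hk⟩ := IsPGroup.iff_orderOf.1 S.isPGroup' ⟨b, hbS⟩
  rw [Subgroup.orderOf_mk] at hk
  rcases k with _ | k
  · exact absurd (orderOf_eq_one_iff.1 (by rw [hk, pow_zero])) hb1
  set z := b ^ 2 ^ k with hzdef
  have hzo : orderOf z = 2 := by
    rw [hzdef, orderOf_pow' _ (pow_ne_zero _ two_ne_zero), hk, Nat.gcd_eq_right (pow_dvd_pow 2 k.le_succ),
      Nat.pow_div k.le_succ two_pos, show k.succ - k = 1 by omega, pow_one]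
  have hz : z * z = 1 := by rw [← pow_two, ← hzo, pow_orderOf_eq_one]
  have hz1 : z ≠ 1 := fun h1 => by rw [h1, orderOf_one] at hzo; omega
  refine le_trans ?_ (theta_le_of_involution h (pow_mem hbS _) hz hz1)
  have hbz : b * z = z * b := (Commute.self_pow b _).eq
  set C := Subgroup.centralizer ({z} : Set G) with hCdef
  have hle : θ b ≤ C := fun x hx => by
    have h1 : Commute x b :=
      Subgroup.mem_centralizer_singleton_iff.1 (centralizerPPrimeCore_le_centralizer 2 b hx)
    exact Subgroup.mem_centralizer_singleton_iff.2 (h1.pow_right _).eq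
  have hbC : b ∈ C := Subgroup.mem_centralizer_singleton_iff.2 hbz
  have hcard : Nat.card ((θ b).subgroupOf C) = Nat.card (θ b) :=
    Nat.card_congr (Subgroup.subgroupOfEquivOfLe hle).toEquiv
  have hP : IsPGroup 2 (Subgroup.zpowers (⟨b, hbC⟩ : C)) :=
    IsPGroup.of_card (n := k + 1) (by rw [Nat.card_zpowers, Subgroup.orderOf_mk, hk])
  have hX := le_pPrimeCore_of_centralizes (p := 2)
    (CfsgLib.SectRank.isPConstrained_iff.1 (hcon z hzo)) (X := (θ b).subgroupOf C) hP
    (by rw [hcard]; exact not_dvd_card_centralizerPPrimeCore b)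
    (fun x hx => by
      rw [centralizer_zpowers_eq, Subgroup.mem_centralizer_singleton_iff]
      exact Subtype.ext (Subgroup.mem_centralizer_singleton_iff.1
        (centralizerPPrimeCore_le_centralizer 2 b hx)))
    (fun g hg => by
      rw [centralizer_zpowers_eq, Subgroup.mem_centralizer_singleton_iff] at hg
      refine Subgroup.mem_normalizer_iff.2 fun x => ?_
      exact Subgroup.mem_normalizer_iff.1 (centralizer_le_normalizer_centralizerPPrimeCore 2 b
        (Subgroup.mem_centralizer_singleton_iff.2 (congrArg Subtype.val hg))) (x : G))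
  intro x hx
  exact ⟨⟨x, hle hx⟩, hX (show (⟨x, hle hx⟩ : C) ∈ (θ b).subgroupOf C from hx), rfl⟩

open CfsgLib.Minimal.SmallTwo in
/-- All subgroups of `S` of rank at least two have the same closure. -/
theorem coresOf_eq (h : Setting S E)
    (hcon : ∀ b : G, orderOf b = 2 → IsPConstrained 2 ↥(Subgroup.centralizer ({b} : Set G))) {B : Subgroup G} (hB : B ≤ (S : Subgroup G))
    (hrk : ¬ PRankLE 2 1 ↥B) : coresOf B = coresOf E := by
  haveI : Fact (Nat.Prime 2) := ⟨Nat.prime_two⟩
  refine le_antisymm (iSup_le fun b => theta_le h hcon (hB b.2.1) b.2.2) ?_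
  obtain ⟨A, hAB, hA, hA4⟩ := exists_elemAb_of_not_pRankLE hrk
  have hA4' : 4 ≤ Nat.card A := by simpa using hA4
  obtain ⟨t, ht, ht1, -⟩ := exists_ne_ne hA4' 1
  obtain ⟨u, hu, hu1, hut⟩ := exists_ne_ne hA4' t
  rw [← coresOf_four h (hB (hAB ht)) (hB (hAB hu)) (sq_of_elem hA ht) (sq_of_elem hA hu)
    (elemAb_comm hA ht hu) ht1 hu1 (Ne.symm hut)]
  exact coresOf_mono ((fourOf_le _ _ _ ht hu).trans hAB)

/-- The closure restricts to the core of each involution centraliser. -/
theorem coresOf_inf_centralizer (h : Setting S E) {x : G} (hxS : x ∈ (S : Subgroup G))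
    (hx : orderOf x = 2) : coresOf E ⊓ Subgroup.centralizer ({x} : Set G) = θ x := by
  haveI : Fact (Nat.Prime 2) := ⟨Nat.prime_two⟩
  have hxx : x * x = 1 := by rw [← pow_two, ← hx, pow_orderOf_eq_one]
  have hx1 : x ≠ 1 := fun h1 => by rw [h1, orderOf_one] at hx; omega
  by_cases hxE : x ∈ E
  · obtain ⟨X, -, hX, hXc⟩ := det h h.elem h.big
    rw [hX E le_rfl (by have := h.big; omega)]; exact hXc x hxE hx1
  set F := E ⊓ Subgroup.centralizer ({x} : Set G)
  have hF4 : 4 ≤ Nat.card F := four_le_centralizer h hxS hxx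
  have hz : IsElementaryAbelian 2 (Subgroup.zpowers x) := by
    refine ⟨inferInstance, fun b hb => ?_⟩
    obtain ⟨i, rfl⟩ := Subgroup.mem_zpowers_iff.1 hb
    rw [← zpow_natCast, ← zpow_mul, mul_comm, zpow_mul, zpow_natCast, ← hx, pow_orderOf_eq_one,
      one_zpow]
  have hA : IsElementaryAbelian 2 (Subgroup.zpowers x ⊔ F : Subgroup G) :=
    isElementaryAbelian_sup hz (elemAb_of_le h.elem inf_le_left) fun a ha e he => by
      obtain ⟨i, rfl⟩ := Subgroup.mem_zpowers_iff.1 ha
      exact ((show Commute e x from Subgroup.mem_centralizer_singleton_iff.1 he.2).zpow_right i).symm.eq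
  have hxA : x ∈ Subgroup.zpowers x ⊔ F := Subgroup.mem_sup_left (Subgroup.mem_zpowers x)
  have h8 : 8 ≤ Nat.card ↥(Subgroup.zpowers x ⊔ F) := by
    have hne : F ≠ Subgroup.zpowers x ⊔ F := fun he => hxE (he.ge hxA).1
    have h1 : Nat.card F < Nat.card ↥(Subgroup.zpowers x ⊔ F) := lt_of_le_of_ne
      (Subgroup.card_le_of_le le_sup_right) fun he => hne (Subgroup.eq_of_le_of_card_ge le_sup_right he.ge)
    obtain ⟨k, hk⟩ := IsPGroup.iff_card.1 (elemAb_isPGroup hA)
    rw [hk] at h1 ⊢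
    calc 8 = 2 ^ 3 := by norm_num
      _ ≤ 2 ^ k := Nat.pow_le_pow_right (by norm_num) (by
        by_contra hk3
        have := Nat.pow_le_pow_right (n := 2) two_pos (by omega : k ≤ 2)
        omega)
  obtain ⟨X, -, hX, hXc⟩ := det h hA h8
  have h3 : coresOf E = X := by
    rw [← hX F le_sup_right hF4, coresOf_eq_of_le h inf_le_left hF4]
  rw [h3]; exact hXc x hxA hx1

theorem not_pRankLE_of_le {k : ℕ} {B C : Subgroup G} (hBC : B ≤ C) (h : ¬ PRankLE 2 k ↥B) :
    ¬ PRankLE 2 k ↥C := fun hC => h fun A hAc hA2 => by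
  have := hC (A.map (Subgroup.inclusion hBC)) inferInstance (by
    rintro _ ⟨x, hx, rfl⟩
    rw [← map_pow, hA2 x hx, map_one])
  rwa [Subgroup.card_map_of_injective (Subgroup.inclusion_injective hBC)] at this

/-- A self-centralizing normal abelian subgroup of rank three gives a setting in every Sylow 2-subgroup. -/
theorem exists_setting
    (hbal : ∀ a b : G, a * a = 1 → orderOf b = 2 → a * b = b * a →
      centralizerPPrimeCore 2 a ⊓ Subgroup.centralizer ({b} : Set G) ≤ centralizerPPrimeCore 2 b)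
    (hsolv : ∀ H : Subgroup G, Odd (Nat.card H) → Group.IsSolvable H)
    (hsft : SolvableFunctorsComplete 2 G)
    (S : Sylow 2 G) (A : Subgroup ↥(S : Subgroup G)) (hAn : A.Normal) (hAab : IsMulCommutative ↥A)
    (hA3 : ¬ PRankLE 2 2 ↥A) (S' : Sylow 2 G) : ∃ E : Subgroup G, Setting S' E := by
  haveI : Fact (Nat.Prime 2) := ⟨Nat.prime_two⟩
  obtain ⟨g, hg⟩ := MulAction.exists_smul_eq G S S'
  have hgS : ∀ x, x ∈ (S' : Subgroup G) ↔ g⁻¹ * x * g ∈ (S : Subgroup G) := by
    intro x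
    rw [← hg, Sylow.coe_subgroup_smul, Subgroup.mem_pointwise_smul_iff_inv_smul_mem,
      MulAut.smul_def, MulAut.conj_inv_apply]
  have hcomm : ∀ a ∈ A, ∀ b ∈ A, a * b = b * a := fun a ha b hb =>
    congrArg Subtype.val (hAab.is_comm.comm (⟨a, ha⟩ : A) ⟨b, hb⟩)
  let Ω : Subgroup ↥(S : Subgroup G) :=
    { carrier := {a | a ∈ A ∧ a * a = 1}
      one_mem' := ⟨one_mem A, one_mul 1⟩
      mul_mem' := fun {a b} ha hb => ⟨mul_mem ha.1 hb.1, by
        calc a * b * (a * b) = a * (b * a) * b := by group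
          _ = (a * a) * (b * b) := by rw [← hcomm a ha.1 b hb.1]; group
          _ = 1 := by rw [ha.2, hb.2, one_mul]⟩
      inv_mem' := fun {a} ha => ⟨inv_mem ha.1, by rw [← mul_inv_rev, ha.2, inv_one]⟩ }
  set f := (MulAut.conj g).toMonoidHom.comp (S : Subgroup G).subtype with hf
  have hfinj : Function.Injective f :=
    (MulAut.conj g).injective.comp (S : Subgroup G).subtype_injective
  refine ⟨Ω.map f, ⟨?_, ?_, ?_, ?_, hbal, hsolv, hsft⟩⟩
  · rintro _ ⟨a, -, rfl⟩
    rw [hgS]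
    show g⁻¹ * (g * (a : G) * g⁻¹) * g ∈ (S : Subgroup G)
    rw [show g⁻¹ * (g * (a : G) * g⁻¹) * g = a by group]
    exact a.2
  · rintro s hs _ ⟨a, ha, rfl⟩
    set s' : ↥(S : Subgroup G) := ⟨g⁻¹ * s * g, (hgS s).1 hs⟩ with hs'
    refine ⟨s' * a * s'⁻¹, ⟨hAn.conj_mem a ha.1 s', ?_⟩, ?_⟩
    · calc s' * a * s'⁻¹ * (s' * a * s'⁻¹) = s' * (a * a) * s'⁻¹ := by group
        _ = 1 := by rw [ha.2]; group
    · show g * ((g⁻¹ * s * g) * a * (g⁻¹ * s * g)⁻¹) * g⁻¹ = s * (g * a * g⁻¹) * s⁻¹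
      group
  · refine ⟨⟨⟨fun x y => Subtype.ext ?_⟩⟩, ?_⟩
    · obtain ⟨a, ha, hax⟩ := x.2
      obtain ⟨b, hb, hby⟩ := y.2
      show (x : G) * y = y * x
      rw [← hax, ← hby, ← map_mul, ← map_mul, hcomm a ha.1 b hb.1]
    · rintro _ ⟨a, ha, rfl⟩
      rw [← map_pow, pow_two, ha.2, map_one]
  · rw [Subgroup.card_map_of_injective hfinj]
    obtain ⟨D, hDA, hD, hD8⟩ := exists_elemAb_of_not_pRankLE hA3
    refine le_trans (by simpa using hD8) (Subgroup.card_le_of_le fun d hd => ⟨hDA hd, ?_⟩)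
    rw [← pow_two]; exact hD.2 d hd

theorem constrained_centralizer
    (h2c : ∀ T : Subgroup G, IsPGroup 2 T → T ≠ ⊥ → IsPConstrained 2 ↥(Subgroup.normalizer (T : Set G)))
    (b : G) (hb : orderOf b = 2) : IsPConstrained 2 ↥(Subgroup.centralizer ({b} : Set G)) := by
  haveI : Fact (Nat.Prime 2) := ⟨Nat.prime_two⟩
  have h1 := h2c (Subgroup.zpowers b)
    (IsPGroup.of_card (n := 1) (by rw [Nat.card_zpowers, hb, pow_one]))
    (fun h0 => by rw [Subgroup.zpowers_eq_bot.1 h0, orderOf_one] at hb; omega)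
  have e : Subgroup.normalizer (Subgroup.zpowers b : Set G) = Subgroup.centralizer ({b} : Set G) := by
    ext x
    rw [Subgroup.mem_centralizer_singleton_iff]
    refine ⟨fun hx => ?_, fun hx => ?_⟩
    · have h2 := (Subgroup.mem_normalizer_iff.1 hx b).1 (Subgroup.mem_zpowers b)
      obtain ⟨i, hi⟩ := Subgroup.mem_zpowers_iff.1 h2
      rw [← zpow_mod_orderOf, hb] at hi
      rcases Int.emod_two_eq_zero_or_one i with hi2 | hi2 <;> push_cast at hi <;> rw [hi2] at hi
      · rw [zpow_zero] at hi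
        rw [conj_eq_one_iff.1 hi.symm, orderOf_one] at hb; omega
      · rw [zpow_one] at hi
        exact (eq_mul_inv_iff_mul_eq.1 hi).symm
    · refine Subgroup.centralizer_le_normalizer _ (Subgroup.mem_centralizer_iff.2 fun y hy => ?_)
      obtain ⟨i, rfl⟩ := Subgroup.mem_zpowers_iff.1 hy
      exact ((show Commute x b from hx).zpow_right i).symm.eq
  rwa [e] at h1

theorem balance_of_constrained
    (hcon : ∀ b : G, orderOf b = 2 → IsPConstrained 2 ↥(Subgroup.centralizer ({b} : Set G)))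
    (a b : G) (ha : a * a = 1) (hb : orderOf b = 2) (hab : a * b = b * a) :
    centralizerPPrimeCore 2 a ⊓ Subgroup.centralizer ({b} : Set G) ≤ centralizerPPrimeCore 2 b :=
  haveI : Fact (Nat.Prime 2) := ⟨Nat.prime_two⟩
  centralizerPPrimeCore_inf_le (by rw [pow_two]; exact ha) hab
    (CfsgLib.SectRank.isPConstrained_iff.1 (hcon b hb))

/-- The common closure `W`. -/
theorem exists_closure
    (h2c : ∀ T : Subgroup G, IsPGroup 2 T → T ≠ ⊥ → IsPConstrained 2 ↥(Subgroup.normalizer (T : Set G)))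
    (hsolv : ∀ H : Subgroup G, Odd (Nat.card H) → Group.IsSolvable H)
    (hsft : SolvableFunctorsComplete 2 G)
    (S : Sylow 2 G) (A : Subgroup ↥(S : Subgroup G)) (hAn : A.Normal) (hAab : IsMulCommutative ↥A)
    (hA3 : ¬ PRankLE 2 2 ↥A) (S' : Sylow 2 G) :
    ∃ W : Subgroup G, Odd (Nat.card ↥W) ∧
      ∀ B : Subgroup G, B ≤ (S' : Subgroup G) → ¬ PRankLE 2 1 ↥B →
        W = (⨆ b : {b : G // b ∈ B ∧ b ≠ 1}, centralizerPPrimeCore 2 (b : G)) ∧
        Subgroup.normalizer (B : Set G) ≤ Subgroup.normalizer (W : Set G) := by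
  have hcon := constrained_centralizer h2c
  obtain ⟨E, h⟩ := exists_setting (balance_of_constrained hcon) hsolv hsft S A hAn hAab hA3 S'
  refine ⟨coresOf E, odd_card_coresOf h, fun B hB hrk => ?_⟩
  have h1 := coresOf_eq h hcon hB hrk
  exact ⟨h1.symm, (le_normalizer_coresOf B).trans (le_of_eq (by rw [h1]))⟩

end CfsgLib.Signalizer.ScnThree

namespace CfsgLib.Signalizer.ScnThree

open Cfsg CfsgLib.Balance

variable {G : Type*} [Group G] [Finite G]

/-- In a simple group the involution cores vanish, given the criterion for complete consistent cores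
(the statement of `S1290`) as a hypothesis. -/
theorem cores_eq_bot_of_balance
    (hcrit : ∀ S : Sylow 2 G,
      Odd (Nat.card ↥(⨆ x : {x : G // x ∈ S ∧ orderOf x = 2}, centralizerPPrimeCore 2 (x : G))) →
      (∀ x : G, x ∈ S → orderOf x = 2 →
        (⨆ y : {y : G // y ∈ S ∧ orderOf y = 2}, centralizerPPrimeCore 2 (y : G)) ⊓
          Subgroup.centralizer {x} = centralizerPPrimeCore 2 x) →
      ∀ t : G, orderOf t = 2 → centralizerPPrimeCore 2 t = ⊥)
    (hbal : ∀ a b : G, a * a = 1 → orderOf b = 2 → a * b = b * a →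
      centralizerPPrimeCore 2 a ⊓ Subgroup.centralizer ({b} : Set G) ≤ centralizerPPrimeCore 2 b)
    (hsolv : ∀ H : Subgroup G, Odd (Nat.card H) → Group.IsSolvable H)
    (hsft : SolvableFunctorsComplete 2 G)
    (S : Sylow 2 G) (A : Subgroup ↥(S : Subgroup G)) (hAn : A.Normal) (hAab : IsMulCommutative ↥A)
    (hA3 : ¬ PRankLE 2 2 ↥A) : ∀ t : G, orderOf t = 2 → centralizerPPrimeCore 2 t = ⊥ := by
  haveI : Fact (Nat.Prime 2) := ⟨Nat.prime_two⟩
  obtain ⟨E, h⟩ := exists_setting hbal hsolv hsft S A hAn hAab hA3 S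
  have hW : (⨆ y : {y : G // y ∈ S ∧ orderOf y = 2}, centralizerPPrimeCore 2 (y : G)) = coresOf E := by
    refine le_antisymm (iSup_le fun y => theta_le_of_involution h y.2.1 ?_ fun hy => ?_)
      (iSup_le fun e => ?_)
    · have h' := pow_orderOf_eq_one (y : G)
      rwa [y.2.2, pow_two] at h'
    · have := y.2.2; rw [hy, orderOf_one] at this; omega
    · exact le_iSup (fun y : {y : G // y ∈ S ∧ orderOf y = 2} => centralizerPPrimeCore 2 (y : G))
        ⟨e, h.sub e.2.1, elemAb_orderOf h.elem e.2.1 e.2.2⟩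
  refine hcrit S ?_ fun x hxS hx => ?_
  · rw [hW]; exact odd_card_coresOf h
  · rw [hW]; exact coresOf_inf_centralizer h hxS hx

/-- The same for 2-constrained 2-local subgroups. -/
theorem cores_eq_bot
    (hcrit : ∀ S : Sylow 2 G,
      Odd (Nat.card ↥(⨆ x : {x : G // x ∈ S ∧ orderOf x = 2}, centralizerPPrimeCore 2 (x : G))) →
      (∀ x : G, x ∈ S → orderOf x = 2 →
        (⨆ y : {y : G // y ∈ S ∧ orderOf y = 2}, centralizerPPrimeCore 2 (y : G)) ⊓
          Subgroup.centralizer {x} = centralizerPPrimeCore 2 x) →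
      ∀ t : G, orderOf t = 2 → centralizerPPrimeCore 2 t = ⊥)
    (h2c : ∀ T : Subgroup G, IsPGroup 2 T → T ≠ ⊥ → IsPConstrained 2 ↥(Subgroup.normalizer (T : Set G)))
    (hsolv : ∀ H : Subgroup G, Odd (Nat.card H) → Group.IsSolvable H)
    (hsft : SolvableFunctorsComplete 2 G)
    (S : Sylow 2 G) (A : Subgroup ↥(S : Subgroup G)) (hAn : A.Normal) (hAab : IsMulCommutative ↥A)
    (hA3 : ¬ PRankLE 2 2 ↥A) : ∀ t : G, orderOf t = 2 → centralizerPPrimeCore 2 t = ⊥ :=
  cores_eq_bot_of_balance hcrit (balance_of_constrained (constrained_centralizer h2c)) hsolv hsft S A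
    hAn hAab hA3

end CfsgLib.Signalizer.ScnThree
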