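import Cfsg.Prelude.Def_Balance
import Cfsg.Agent.Lib.TwoGroups.NormalCyclic
import Cfsg.Agent.Lib.PGroups.Basic
import Cfsg.Agent.Lib.PGroups.NormalAbelian
import Cfsg.Agent.Lib.CoprimeAction.Abelian
import Cfsg.Agent.Lib.Signalizer.Generation
import Mathlib.GroupTheory.SpecificGroups.Quaternion
import Mathlib.GroupTheory.SpecificGroups.Dihedral

/-!
The commuting graph on elementary abelian subgroups of order at least `p ^ 2` of a p-group.
-/

set_option autoImplicit false
set_option linter.style.haveILetI false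
set_option linter.unusedSectionVars false

open Cfsg
open scoped IsMulCommutative
set_option linter.flexible false

namespace CfsgLib.Signalizer

variable {P : Type*} [Group P] [Finite P] {p : ℕ} [hp : Fact p.Prime]

/-- A group with a cyclic subgroup of index at most two has rank at most two. -/
theorem pRankLE_two_of_cyclicMax {n : ℕ} {x : P} (hx : orderOf x = n)
    (hc : Nat.card P ≤ 2 * n) : PRankLE p 2 P := by
  intro A hAc hAp
  set Z := Subgroup.zpowers x with hZ
  have hA : IsElementaryAbelian p A := ⟨hAc, hAp⟩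
  have hZA : Nat.card ↥(A ⊓ Z) ≤ p := by
    haveI : IsCyclic ↥(A ⊓ Z) := Subgroup.isCyclic_of_le (inf_le_right : A ⊓ Z ≤ Z)
    obtain ⟨g, hg⟩ := IsCyclic.exists_generator (α := ↥(A ⊓ Z))
    rw [← orderOf_eq_card_of_forall_mem_zpowers hg]
    exact Nat.le_of_dvd hp.out.pos
      (orderOf_dvd_of_pow_eq_one (Subtype.ext (by simpa using hAp g g.2.1)))
  have hidx : (A ⊓ Z).relIndex A ≤ 2 := by
    rw [Subgroup.inf_relIndex_left]
    refine le_trans (Subgroup.relIndex_le_of_le_right (le_top (a := A)) ?_) ?_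
    · rw [Subgroup.relIndex_top_right]; exact Subgroup.index_ne_zero_of_finite
    rw [Subgroup.relIndex_top_right]
    have h := Subgroup.card_mul_index Z
    rw [hZ, Nat.card_zpowers, hx] at h
    have hn : 0 < n := hx ▸ orderOf_pos x
    rw [← h] at hc
    exact Nat.le_of_mul_le_mul_left (by linarith [hc] : n * _ ≤ n * 2) hn
  have h := Subgroup.relIndex_mul_relIndex ⊥ (A ⊓ Z) A bot_le inf_le_left
  rw [Subgroup.relIndex_bot_left, Subgroup.relIndex_bot_left] at h
  rw [← h, pow_two]
  exact Nat.mul_le_mul hZA (hidx.trans hp.out.two_le)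

/-- A p-group of rank greater than two has a normal elementary abelian subgroup of order `p ^ 2`. -/
theorem exists_normal_elemAb_sq (hP : IsPGroup p P) (hrk : ¬ PRankLE p 2 P) :
    ∃ U : Subgroup P, U.Normal ∧ IsElementaryAbelian p U ∧ Nat.card ↥U = p ^ 2 := by
  by_cases hna : CfsgLib.TwoGroups.NormalAbelianCyclic P
  · exfalso
    apply hrk
    rcases CfsgLib.TwoGroups.isCyclic_or_of_normalAbelianCyclic hP hna with h | ⟨-, h⟩
    · obtain ⟨x, hx⟩ := h.exists_generator
      exact pRankLE_two_of_cyclicMax (orderOf_eq_card_of_forall_mem_zpowers hx) (by omega)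
    rcases h with ⟨m, -, ⟨e⟩⟩ | ⟨m, -, ⟨e⟩⟩ | ⟨n, -, hc, x, y, hx, -, -⟩
    · refine pRankLE_two_of_cyclicMax (x := e.symm (DihedralGroup.r 1)) (n := 2 ^ m) ?_ ?_
      · rw [MulEquiv.orderOf_eq, DihedralGroup.orderOf_r_one]
      · rw [Nat.card_congr e.toEquiv, DihedralGroup.nat_card]
    · refine pRankLE_two_of_cyclicMax (x := e.symm (QuaternionGroup.a 1)) (n := 2 * 2 ^ m) ?_ ?_
      · rw [MulEquiv.orderOf_eq, QuaternionGroup.orderOf_a_one]
      · haveI : NeZero (2 ^ m) := ⟨pow_ne_zero _ two_ne_zero⟩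
        rw [Nat.card_congr e.toEquiv, Nat.card_eq_fintype_card, QuaternionGroup.card]
        omega
    · exact pRankLE_two_of_cyclicMax hx (by rw [hc, pow_succ']; )
  unfold CfsgLib.TwoGroups.NormalAbelianCyclic at hna
  push Not at hna
  obtain ⟨B, hBn, hBc, hBnc⟩ := hna
  haveI := hBc
  let W : Subgroup P :=
    { carrier := {b | b ∈ B ∧ b ^ p = 1}
      one_mem' := ⟨one_mem _, one_pow p⟩
      mul_mem' := fun {a b} ha hb => ⟨mul_mem ha.1 hb.1, by
        have : Commute a b := congrArg Subtype.val (mul_comm' (⟨a, ha.1⟩ : B) ⟨b, hb.1⟩)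
        rw [this.mul_pow, ha.2, hb.2, one_mul]⟩
      inv_mem' := fun {a} ha => ⟨inv_mem ha.1, by rw [inv_pow, ha.2, inv_one]⟩ }
  haveI hWn : W.Normal := ⟨fun w hw g => ⟨hBn.conj_mem w hw.1 g, by rw [conj_pow, hw.2]; group⟩⟩
  have hWe : IsElementaryAbelian p W :=
    ⟨⟨⟨fun a b => Subtype.ext
      (congrArg Subtype.val (mul_comm' (⟨(a : P), a.2.1⟩ : B) ⟨(b : P), b.2.1⟩) :
        (a : P) * b = b * a)⟩⟩, fun a ha => ha.2⟩
  obtain ⟨m, hm⟩ := IsPGroup.iff_card.mp (hP.to_subgroup W)
  have hm2 : 2 ≤ m := by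
    by_contra hlt
    apply hBnc
    refine CfsgLib.CoprimeAction.isCyclic_of_prime_roots fun q hq => ?_
    by_cases hqp : q = p
    · subst hqp
      refine le_trans (Nat.card_le_card_of_injective
        (fun b => (⟨((b : ↥B) : P), (b : ↥B).2, congrArg Subtype.val b.2⟩ : W))
        fun a b h => Subtype.ext (Subtype.ext (congrArg (fun w : W => (w : P)) h))) ?_
      rw [hm]
      exact (Nat.pow_le_pow_right hp.out.pos (by omega : m ≤ 1)).trans_eq (pow_one q)
    · have : Nat.card ↥(powMonoidHom q : ↥B →* ↥B).ker = 1 := by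
        rw [Subgroup.card_eq_one, Subgroup.eq_bot_iff_forall]
        intro b hb
        obtain ⟨k, hk⟩ := hP.to_subgroup B b
        exact orderOf_eq_one_iff.mp (Nat.eq_one_of_dvd_coprimes
          (((Nat.coprime_primes hq hp.out).mpr hqp).pow_right k)
          (orderOf_dvd_of_pow_eq_one hb) (orderOf_dvd_of_pow_eq_one hk))
      exact this.le.trans hq.pos
  obtain ⟨U, hUn, hUW, hU⟩ := CfsgLib.PGroups.exists_normal_card_le hP hm hm2
  exact ⟨U, hUn, isElementaryAbelian_of_le hWe hUW, hU⟩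

theorem rank_centralizer_iff {X : Subgroup P} :
    ¬ PRankLE p 2 ↥(Subgroup.centralizer (X : Set P)) ↔
      ∃ E : Subgroup P, IsElementaryAbelian p E ∧ p ^ 2 < Nat.card ↥E ∧
        E ≤ Subgroup.centralizer (X : Set P) := by
  set C := Subgroup.centralizer (X : Set P)
  constructor
  · intro h
    unfold PRankLE at h
    push Not at h
    obtain ⟨A, hAc, hAp, hA⟩ := h
    haveI := hAc
    refine ⟨A.map C.subtype, ⟨Subgroup.map_isMulCommutative A _, ?_⟩, ?_, Subgroup.map_subtype_le _⟩
    · rintro _ ⟨a, ha, rfl⟩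
      rw [← map_pow, hAp a ha, map_one]
    · rwa [Subgroup.card_map_of_injective C.subtype_injective]
  · rintro ⟨E, hE, hEc, hEC⟩ h
    have := h (E.subgroupOf C) ⟨⟨fun a b => Subtype.ext (Subtype.ext
      (mul_comm_of_isElementaryAbelian hE a.2 b.2))⟩⟩ (fun a ha => Subtype.ext (by simpa using hE.2 a ha))
    rw [Nat.card_congr (Subgroup.subgroupOfEquivOfLe hEC).toEquiv] at this
    omega

end CfsgLib.Signalizer
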