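import Cfsg.Agent.Lib.ClassicalLinear.Simple
import Cfsg.Agent.Lib.Cores.Components
import Cfsg.Agent.Lib.Cores.PCore
import Cfsg.Agent.Lib.Cores.GenFitting

/-!
The special linear group on the coordinates different from a given one, as a component of the
centraliser of a diagonal involution.
-/

set_option autoImplicit false
set_option linter.style.haveILetI false
set_option linter.unusedSectionVars false
set_option linter.unusedSimpArgs false

open Matrix Cfsg

namespace CfsgLib.Signalizer

variable {ι : Type*} [Fintype ι] [DecidableEq ι] {F : Type*} [Field F]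

/-- A matrix on the coordinates different from `q`, completed by `1`. -/
noncomputable def blockMat (q : ι) : Matrix {i // i ≠ q} {i // i ≠ q} F →* Matrix ι ι F where
  toFun A := reindexAlgEquiv F F (Equiv.sumCompl (fun i => i ≠ q)) (fromBlocks A 0 0 1)
  map_one' := by rw [fromBlocks_one, map_one]
  map_mul' A B := by
    rw [← map_mul, fromBlocks_multiply]
    simp

variable {q : ι}

theorem blockMat_apply (A : Matrix {i // i ≠ q} {i // i ≠ q} F) (i j : ι) :
    blockMat q A i j = if hi : i ≠ q then (if hj : j ≠ q then A ⟨i, hi⟩ ⟨j, hj⟩ else 0)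
      else (if i = j then 1 else 0) := by
  show (fromBlocks A 0 0 1) ((Equiv.sumCompl (fun i => i ≠ q)).symm i)
    ((Equiv.sumCompl (fun i => i ≠ q)).symm j) = _
  by_cases hi : i ≠ q <;> by_cases hj : j ≠ q
  · rw [Equiv.sumCompl_symm_apply_of_pos (p := fun k : ι => k ≠ q) hi, Equiv.sumCompl_symm_apply_of_pos (p := fun k : ι => k ≠ q) hj, dif_pos hi,
      dif_pos hj, fromBlocks_apply₁₁]
  · rw [Equiv.sumCompl_symm_apply_of_pos (p := fun k : ι => k ≠ q) hi, Equiv.sumCompl_symm_apply_of_neg (p := fun k : ι => k ≠ q) hj, dif_pos hi,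
      dif_neg hj, fromBlocks_apply₁₂]
    rfl
  · rw [Equiv.sumCompl_symm_apply_of_neg (p := fun k : ι => k ≠ q) hi, Equiv.sumCompl_symm_apply_of_pos (p := fun k : ι => k ≠ q) hj, dif_neg hi,
      fromBlocks_apply₂₁, if_neg (fun e : i = j => hi (by rw [e]; exact hj))]
    rfl
  · rw [Equiv.sumCompl_symm_apply_of_neg (p := fun k : ι => k ≠ q) hi, Equiv.sumCompl_symm_apply_of_neg (p := fun k : ι => k ≠ q) hj, dif_neg hi,
      fromBlocks_apply₂₂, if_pos ((not_not.mp hi).trans (not_not.mp hj).symm)]
    exact if_pos (Subtype.ext ((not_not.mp hi).trans (not_not.mp hj).symm))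

theorem det_blockMat (A : Matrix {i // i ≠ q} {i // i ≠ q} F) : (blockMat q A).det = A.det := by
  show (reindexAlgEquiv F F _ _).det = _
  rw [det_reindexAlgEquiv, det_fromBlocks_zero₁₂, det_one, mul_one]

/-- The special linear group on the coordinates different from `q`. -/
noncomputable def blockSL (q : ι) : SpecialLinearGroup {i // i ≠ q} F →* SpecialLinearGroup ι F where
  toFun A := ⟨blockMat q A.1, by rw [det_blockMat, A.2]⟩
  map_one' := Subtype.ext (map_one (blockMat q))
  map_mul' A B := Subtype.ext (map_mul (blockMat q) A.1 B.1)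

theorem blockSL_coe (A : SpecialLinearGroup {i // i ≠ q} F) :
    (blockSL q A : Matrix ι ι F) = blockMat q A.1 := rfl

theorem blockSL_injective : Function.Injective (blockSL (F := F) q) := by
  intro A B h
  apply Subtype.ext
  ext i j
  have := congrFun (congrFun (congrArg Subtype.val h) i.1) j.1
  simpa [blockSL_coe, blockMat_apply, i.2, j.2] using this

/-- The matrices fixing the decomposition. -/
def Split (q : ι) (g : Matrix ι ι F) : Prop := ∀ i, i ≠ q → g i q = 0 ∧ g q i = 0

theorem split_blockMat (A : Matrix {i // i ≠ q} {i // i ≠ q} F) : Split q (blockMat q A) := by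
  intro i hi
  simp [blockMat_apply, hi, Ne.symm hi]

theorem blockMat_apply_self (A : Matrix {i // i ≠ q} {i // i ≠ q} F) : blockMat q A q q = 1 := by
  simp [blockMat_apply]

theorem mul_apply_self_of_split {g : Matrix ι ι F} (hg : Split q g) (h : Matrix ι ι F) :
    (g * h) q q = g q q * h q q := by
  rw [Matrix.mul_apply]
  exact Finset.sum_eq_single q (fun b _ hb => by rw [(hg b hb).2, zero_mul]) (by simp)

theorem split_mul {g h : Matrix ι ι F} (hg : Split q g) (hh : Split q h) : Split q (g * h) := by
  intro i hi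
  refine ⟨?_, ?_⟩ <;> rw [Matrix.mul_apply] <;> refine Finset.sum_eq_zero fun b _ => ?_
  · by_cases hb : b = q
    · rw [hb, (hg i hi).1, zero_mul]
    · rw [(hh b hb).1, mul_zero]
  · by_cases hb : b = q
    · rw [hb, (hh i hi).2, mul_zero]
    · rw [(hg b hb).2, zero_mul]

/-- Recognition of the image. -/
theorem exists_blockSL {g : Matrix ι ι F} (hg : Split q g) (h1 : g q q = 1) (hdet : g.det = 1) :
    ∃ A : SpecialLinearGroup {i // i ≠ q} F, (blockSL q A : Matrix ι ι F) = g := by
  have heq : blockMat q (g.submatrix Subtype.val Subtype.val) = g := by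
    ext i j
    rw [blockMat_apply]
    by_cases hi : i ≠ q
    · by_cases hj : j ≠ q
      · simp [hi, hj]
      · rw [not_not] at hj
        subst hj
        simp [hi, (hg i hi).1]
    · rw [not_not] at hi
      subst hi
      by_cases hj : i = j
      · subst hj; simp [h1]
      · simp [hj, (hg j (Ne.symm hj)).2]
  refine ⟨⟨g.submatrix Subtype.val Subtype.val, ?_⟩, heq⟩
  rw [← det_blockMat (q := q), heq, hdet]

/-- Conjugates by split matrices stay in the image. -/
theorem exists_blockSL_conj {g k : Matrix ι ι F} (hg : Split q g) (hk : Split q k) (hgk : g * k = 1)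
    (A : SpecialLinearGroup {i // i ≠ q} F) :
    ∃ B : SpecialLinearGroup {i // i ≠ q} F,
      (blockSL q B : Matrix ι ι F) = g * blockMat q A.1 * k := by
  refine exists_blockSL (split_mul (split_mul hg (split_blockMat _)) hk) ?_ ?_
  · rw [mul_apply_self_of_split (split_mul hg (split_blockMat _)),
      mul_apply_self_of_split hg, blockMat_apply_self, mul_one, ← mul_apply_self_of_split hg, hgk,
      Matrix.one_apply_eq]
  · rw [det_mul, det_mul, det_blockMat, A.2, mul_one, ← det_mul, hgk, det_one]

/-- Commuting with a diagonal matrix separating `q`. -/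
theorem split_of_commute_diagonal {d : ι → F} (hd : ∀ i, i ≠ q → d i ≠ d q) {g : Matrix ι ι F}
    (h : g * diagonal d = diagonal d * g) : Split q g := by
  intro i hi
  have h1 := congrFun (congrFun h i) q
  have h2 := congrFun (congrFun h q) i
  rw [mul_diagonal, diagonal_mul, mul_comm (g i q), ← sub_eq_zero, ← sub_mul, mul_eq_zero] at h1
  rw [mul_diagonal, diagonal_mul, mul_comm (g q i), ← sub_eq_zero, ← sub_mul, mul_eq_zero] at h2
  exact ⟨h1.resolve_left (sub_ne_zero.mpr (Ne.symm (hd i hi))),
    h2.resolve_left (sub_ne_zero.mpr (hd i hi))⟩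

/-- The block group commutes with diagonal matrices constant on the block. -/
theorem blockMat_commute_diagonal {d : ι → F} {c : F} (hd : ∀ i, i ≠ q → d i = c)
    (A : Matrix {i // i ≠ q} {i // i ≠ q} F) :
    blockMat q A * diagonal d = diagonal d * blockMat q A := by
  ext i j
  rw [mul_diagonal, diagonal_mul, blockMat_apply]
  by_cases hi : i = q <;> by_cases hj : j = q
  · subst hi hj; simp
  · subst hi; simp [Ne.symm hj]
  · subst hj; simp [hi]
  · simp only [dif_pos hi, dif_pos hj]
    rw [hd i hi, hd j hj, mul_comm]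

theorem blockMat_transvection {i j : {i // i ≠ q}} (c : F) :
    blockMat q (transvection i j c) = transvection (i : ι) (j : ι) c := by
  ext a b
  rw [blockMat_apply]
  by_cases ha : a = q <;> by_cases hb : b = q
  · subst ha hb
    simp [transvection, Matrix.single_apply, i.2]
  · subst ha
    simp [transvection, Matrix.single_apply, i.2, Matrix.one_apply, Ne.symm hb]
  · subst hb
    simp [transvection, Matrix.single_apply, j.2, Matrix.one_apply, ha]
  · simp [transvection, Matrix.single_apply, Matrix.one_apply, ha, hb, Subtype.ext_iff]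

/-- A matrix commuting with the block group is diagonal, constant on the block. -/
theorem eq_diagonal_of_commute {g : Matrix ι ι F} (hι : ∀ i, i ≠ q → ∃ j, j ≠ q ∧ j ≠ i)
    (h : ∀ A : SpecialLinearGroup {i // i ≠ q} F,
      g * blockMat q A.1 = blockMat q A.1 * g) :
    g = diagonal (fun i => g i i) ∧ ∀ i j, i ≠ q → j ≠ q → g i i = g j j := by
  have key : ∀ i j, i ≠ q → j ≠ q → i ≠ j →
      (∀ k, k ≠ i → g k i = 0) ∧ (∀ l, l ≠ j → g j l = 0) ∧ g i i = g j j := by
    intro i j hi hj hij
    have h1 := h ⟨transvection ⟨i, hi⟩ ⟨j, hj⟩ 1,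
      det_transvection_of_ne _ _ (fun e => hij (congrArg Subtype.val e)) 1⟩
    rw [blockMat_transvection, transvection, mul_add, add_mul, mul_one, one_mul,
      add_right_inj] at h1
    refine ⟨fun k hk => ?_, fun l hl => ?_, ?_⟩
    · have := congrFun (congrFun h1 k) j
      simpa [Matrix.mul_single_apply_same, Matrix.single_mul_apply_of_ne, hk] using this
    · have := congrFun (congrFun h1 i) l
      simpa [Matrix.mul_single_apply_of_ne, Matrix.single_mul_apply_same, hl] using this.symm
    · have := congrFun (congrFun h1 i) j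
      simpa [Matrix.mul_single_apply_same, Matrix.single_mul_apply_same] using this
  refine ⟨?_, fun i j hi hj => ?_⟩
  · ext a b
    by_cases hab : a = b
    · subst hab; simp
    rw [diagonal_apply_ne _ hab]
    by_cases hb : b = q
    · have ha : a ≠ q := fun e => hab (e.trans hb.symm)
      obtain ⟨i, hi, hia⟩ := hι a ha
      exact (key i a hi ha hia).2.1 b (fun e => hab e.symm)
    · obtain ⟨j, hj, hjb⟩ := hι b hb
      exact (key b j hb hj (Ne.symm hjb)).1 a hab
  · by_cases hij : i = j
    · rw [hij]
    · exact (key i j hi hj hij).2.2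

theorem isQuasisimple_sl {κ : Type*} [Fintype κ] [DecidableEq κ] [Nontrivial κ]
    (h : 3 ≤ Fintype.card κ ∨ ∃ a : F, a ≠ 0 ∧ a ^ 2 ≠ 1) :
    IsQuasisimple (SpecialLinearGroup κ F) :=
  ⟨⟨CfsgLib.ClassicalLinear.commutator_sl_eq_top h⟩, CfsgLib.ClassicalLinear.isSimpleGroup_psl h⟩

/-- A quasisimple normal subgroup with abelian centraliser is the layer. -/
theorem layer_eq_of_normal {H : Type*} [Group H] [Finite H] {L : Subgroup H} [L.Normal]
    (hL : IsQuasisimple L)
    (hab : ∀ a ∈ Subgroup.centralizer (L : Set H), ∀ b ∈ Subgroup.centralizer (L : Set H),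
      a * b = b * a) :
    layer H = L := by
  have hsn : L.IsSubnormal := (inferInstance : L.Normal).isSubnormal
  refine le_antisymm (CfsgLib.Cores.layer_le_iff.mpr fun K hK => ?_)
    (CfsgLib.Cores.le_layer ⟨hsn, hL⟩)
  rcases CfsgLib.Cores.le_or_commutator_eq_bot hK hsn with h | h
  · exact h
  exfalso
  haveI : IsMulCommutative ↥(Subgroup.centralizer (L : Set H)) :=
    ⟨⟨fun a b => Subtype.ext (hab a a.2 b b.2)⟩⟩
  haveI : Group.IsSolvable ↥(Subgroup.centralizer (L : Set H)) :=
    Group.isSolvable_of_comm fun a b => Subtype.ext (hab a a.2 b b.2)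
  exact CfsgLib.Cores.not_le_of_isSolvable hK
    (Subgroup.commutator_eq_bot_iff_le_centralizer.mp h)

/-- A component of even order survives modulo the core. -/
theorem hasComponent_quotient_oddCore {H : Type*} [Group H] [Finite H] {L : Subgroup H}
    (hL : IsComponent L) (heven : Even (Nat.card L)) : HasComponent (H ⧸ oddCore H) := by
  set π := QuotientGroup.mk' (oddCore H)
  refine ⟨L.map π, hL.1.map (QuotientGroup.mk'_surjective _), ?_⟩
  haveI : Nontrivial ↥(L.map π) := by
    rw [Subgroup.nontrivial_iff_ne_bot]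
    intro h
    rw [Subgroup.map_eq_bot_iff, QuotientGroup.ker_mk'] at h
    exact Nat.not_odd_iff_even.mpr heven
      (Odd.of_dvd_nat CfsgLib.Cores.odd_card_oddCore (Subgroup.card_dvd_of_le h))
  exact CfsgLib.Cores.isQuasisimple_of_surjective hL.2 (π.subgroupMap_surjective L)

theorem isQuasisimple_map_injective {H K : Type*} [Group H] [Group K]
    (hH : IsQuasisimple H) {f : H →* K} (hf : Function.Injective f) :
    IsQuasisimple ↥f.range :=
  (CfsgLib.Cores.isQuasisimple_congr (MonoidHom.ofInjective hf)).1 hH

/-- The block special linear group has even order in odd characteristic. -/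
theorem even_card_sl {κ : Type*} [Fintype κ] [DecidableEq κ] [Nontrivial κ] [Finite F]
    (h2 : (-1 : F) ≠ 1) : Even (Nat.card (SpecialLinearGroup κ F)) := by
  classical
  obtain ⟨a, b, hab⟩ := exists_pair_ne κ
  let d : κ → F := fun i => if i = a ∨ i = b then -1 else 1
  have hdet : (diagonal d).det = 1 := by
    rw [det_diagonal]
    have : ∀ i, d i = if i ∈ ({a, b} : Finset κ) then (-1 : F) else 1 := fun i => by simp [d]
    simp only [this, Finset.prod_ite_mem, Finset.univ_inter, Finset.prod_pair hab, mul_neg, mul_one,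
      neg_neg]
  let g : SpecialLinearGroup κ F := ⟨diagonal d, hdet⟩
  have hg2 : g ^ 2 = 1 := by
    apply Subtype.ext
    show (diagonal d) ^ 2 = 1
    rw [pow_two, diagonal_mul_diagonal, ← diagonal_one]
    congr 1
    funext i
    by_cases hi : i = a ∨ i = b <;> simp [d, hi]
  have hg1 : g ≠ 1 := by
    intro e
    have := congrFun (congrFun (congrArg Subtype.val e) a) a
    simp [g, d] at this
    exact h2 this
  haveI : Fact (Nat.Prime 2) := ⟨Nat.prime_two⟩
  rw [even_iff_two_dvd, ← orderOf_eq_prime hg2 hg1]
  exact orderOf_dvd_natCard g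

theorem neg_one_ne_one [Fintype F] (hF : Odd (Fintype.card F)) : (-1 : F) ≠ 1 := by
  intro h
  have h2 : ((2 : ℕ) : F) = 0 := by
    rw [Nat.cast_two, ← one_add_one_eq_two]
    calc (1 : F) + 1 = 1 + (-1) := by rw [h]
      _ = 0 := add_neg_cancel 1
  have hc : ((Fintype.card F : ℕ) : F) = 0 := Nat.cast_card_eq_zero F
  obtain ⟨k, hk⟩ := hF
  rw [hk, Nat.cast_add, Nat.cast_mul, h2, zero_mul, Nat.cast_one, zero_add] at hc
  exact one_ne_zero hc

end CfsgLib.Signalizer
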