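import Cfsg.Agent.Lib.Signalizer.ComponentBalance
import Cfsg.Agent.Lib.Signalizer.ZStarInst
import Cfsg.Agent.Lib.Signalizer.UniqueInvolution
import Cfsg.Agent.Lib.Cores.Quasisimple

/-!
The 2-layer of the centraliser of an involution seen inside the group modulo its core: covering of
components, diagonals, and the action of that 2-layer on an invariant 2-component.
-/

set_option autoImplicit false
set_option linter.style.haveILetI false
set_option linter.unusedSectionVars false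

namespace CfsgLib.Signalizer

open Cfsg
open scoped commutatorElement

universe u

/-- An element of 2-power order. -/
def IsTwoElt {X : Type*} [Group X] (x : X) : Prop := ∃ k : ℕ, x ^ 2 ^ k = 1

/-- The 2-layer of the centraliser of `a`, as a subgroup of the group. -/
def layC {X : Type*} [Group X] (a : X) : Subgroup X :=
  (pLayer 2 ↥(Subgroup.centralizer ({a} : Set X))).map (Subgroup.centralizer ({a} : Set X)).subtype

section Basic

variable {X : Type*} [Group X]

theorem isTwoElt_of_isPGroup {T : Subgroup X} (hT : IsPGroup 2 T) {x : X} (hx : x ∈ T) :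
    IsTwoElt x := by
  obtain ⟨k, hk⟩ := hT ⟨x, hx⟩
  exact ⟨k, congrArg Subtype.val hk⟩

theorem isTwoElt_of_sq {x : X} (hx : x * x = 1) : IsTwoElt x := ⟨1, by rw [pow_one, pow_two, hx]⟩

theorem IsTwoElt.map {Y : Type*} [Group Y] (f : X →* Y) {x : X} (hx : IsTwoElt x) :
    IsTwoElt (f x) := hx.imp fun k hk => by rw [← map_pow, hk, map_one]

theorem IsTwoElt.of_map {Y : Type*} [Group Y] {f : X →* Y} (hf : Function.Injective f) {x : X}
    (hx : IsTwoElt (f x)) : IsTwoElt x :=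
  hx.imp fun k hk => hf (by rw [map_pow, hk, map_one])

theorem IsTwoElt.isPGroup {x : X} (hx : IsTwoElt x) : IsPGroup 2 (Subgroup.zpowers x) := by
  obtain ⟨k, hk⟩ := hx
  intro y
  obtain ⟨i, hi⟩ := Subgroup.mem_zpowers_iff.1 y.2
  refine ⟨k, Subtype.ext ?_⟩
  rw [SubmonoidClass.coe_pow, OneMemClass.coe_one, ← hi, ← zpow_natCast, ← zpow_mul, mul_comm,
    zpow_mul, zpow_natCast, hk, one_zpow]

theorem IsTwoElt.eq_one_of_coprime {x : X} (hx : IsTwoElt x) {n : ℕ} (hn : n.Coprime 2)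
    (h : x ^ n = 1) : x = 1 := by
  obtain ⟨k, hk⟩ := hx
  rw [← orderOf_eq_one_iff]
  exact Nat.eq_one_of_dvd_coprimes (hn.pow_right k) (orderOf_dvd_of_pow_eq_one h)
    (orderOf_dvd_of_pow_eq_one hk)

variable [Finite X]

theorem IsTwoElt.eq_one_of_mem {x : X} (hx : IsTwoElt x) {M : Subgroup X}
    (hM : (Nat.card M).Coprime 2) (hxM : x ∈ M) : x = 1 :=
  hx.eq_one_of_coprime hM (orderOf_dvd_iff_pow_eq_one.1 (Subgroup.orderOf_dvd_natCard M hxM))

theorem eq_one_of_mem_core {x : X} (hx : IsTwoElt x) (hxO : x ∈ pPrimeCore 2 X) : x = 1 :=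
  hx.eq_one_of_mem (CfsgLib.Cores.card_pPrimeCore_coprime 2) hxO

/-- A 2-element lying over a 2-component lies in it. -/
theorem mem_pComponent_of_twoElt {J : Subgroup X} (hJ : IsPComponent 2 J) {x : X} (hx : IsTwoElt x)
    (h : QuotientGroup.mk' (pPrimeCore 2 X) x ∈ J.map (QuotientGroup.mk' (pPrimeCore 2 X))) :
    x ∈ J := by
  haveI : Fact (Nat.Prime 2) := ⟨Nat.prime_two⟩
  obtain ⟨k, hk⟩ := hx
  rw [CfsgLib.LBalance.isPComponent_eq hJ]
  exact CfsgLib.LBalance.mem_pElemClosure (Subgroup.mem_comap.2 h) hk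

/-- A 2-element lying over the layer lies in the 2-layer. -/
theorem mem_pLayer_of_twoElt {x : X} (hx : IsTwoElt x)
    (h : QuotientGroup.mk' (pPrimeCore 2 X) x ∈ layer (X ⧸ pPrimeCore 2 X)) :
    x ∈ pLayer 2 X := by
  haveI : Fact (Nat.Prime 2) := ⟨Nat.prime_two⟩
  obtain ⟨k, hk⟩ := hx
  rw [CfsgLib.LBalance.pLayer_eq]
  exact CfsgLib.LBalance.mem_pElemClosure (Subgroup.mem_comap.2 h) hk

/-- The 2-layer maps onto the 2-layer under a surjection with kernel of odd order. -/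
theorem map_pLayer_of_ker {Y : Type*} [Group Y] [Finite Y] {f : X →* Y}
    (hf : Function.Surjective f) (hk : (Nat.card f.ker).Coprime 2) :
    (pLayer 2 X).map f = pLayer 2 Y := by
  haveI : Fact (Nat.Prime 2) := ⟨Nat.prime_two⟩
  refine le_antisymm ?_ ?_
  · refine Subgroup.map_le_iff_le_comap.2 (sSup_le fun K hK => Subgroup.map_le_iff_le_comap.1 ?_)
    exact CfsgLib.LBalance.le_pLayer (CfsgLib.LBalance.isPComponent_map hf hk hK)
  rw [CfsgLib.LBalance.pLayer_eq, CfsgLib.LBalance.pLayer_eq, CfsgLib.LBalance.map_pElemClosure]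
  refine CfsgLib.LBalance.pElemClosure_mono ?_
  set g : X →* Y ⧸ pPrimeCore 2 Y := (QuotientGroup.mk' _).comp f with hg
  have hgs : Function.Surjective g := (QuotientGroup.mk'_surjective _).comp hf
  have hgk : g.ker = pPrimeCore 2 X := by
    rw [hg, ← MonoidHom.comap_ker, QuotientGroup.ker_mk', CfsgLib.LBalance.comap_pPrimeCore_of_ker hf hk]
  let e : X ⧸ pPrimeCore 2 X ≃* Y ⧸ pPrimeCore 2 Y :=
    (QuotientGroup.quotientMulEquivOfEq hgk.symm).trans
      (QuotientGroup.quotientKerEquivOfSurjective g hgs)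
  have he : ∀ x : X, e (QuotientGroup.mk' _ x) = QuotientGroup.mk' _ (f x) := fun x => rfl
  intro y hy
  obtain ⟨x, rfl⟩ := hf y
  refine ⟨x, ?_, rfl⟩
  have h1 : e (QuotientGroup.mk' _ x) ∈ layer (Y ⧸ pPrimeCore 2 Y) := by
    rw [he]; exact hy
  rw [← CfsgLib.Cores.map_layer_equiv e] at h1
  obtain ⟨q, hq, hqe⟩ := h1
  exact Subgroup.mem_comap.2 (e.injective hqe ▸ hq)

theorem map_pLayer_equiv {Y : Type*} [Group Y] [Finite Y] (e : X ≃* Y) :
    (pLayer 2 X).map e.toMonoidHom = pLayer 2 Y :=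
  map_pLayer_of_ker (f := e.toMonoidHom) e.surjective (by
    rw [(MonoidHom.ker_eq_bot_iff e.toMonoidHom).2 e.injective]; simp)

/-- The 2-layer, as a subgroup, does not depend on the description of the group. -/
theorem map_pLayer_congr {A B : Subgroup X} (h : A = B) :
    (pLayer 2 ↥A).map A.subtype = (pLayer 2 ↥B).map B.subtype := by subst h; rfl

end Basic

section Cover

variable {X : Type u} [Group X] [Finite X]

theorem layC_le_centralizer (a : X) : layC a ≤ Subgroup.centralizer ({a} : Set X) :=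
  Subgroup.map_subtype_le _

/-- L-balance for one element. -/
theorem layC_le_pLayer {a : X} (ha : IsTwoElt a) : layC a ≤ pLayer 2 X := by
  have h := CfsgLib.Balance.pLayer_centralizer_le_two zStarTheorem.{u} ha.isPGroup
  rwa [map_pLayer_congr (CfsgLib.Balance.centralizer_zpowers_eq a)] at h

/-- The image of the centraliser of a 2-element modulo the core. -/
theorem map_centralizer_singleton {a : X} (ha : IsTwoElt a) :
    (Subgroup.centralizer ({a} : Set X)).map (QuotientGroup.mk' (pPrimeCore 2 X)) =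
      Subgroup.centralizer ({QuotientGroup.mk' (pPrimeCore 2 X) a} : Set (X ⧸ pPrimeCore 2 X)) := by
  haveI : Fact (Nat.Prime 2) := ⟨Nat.prime_two⟩
  have h := CfsgLib.LBalance.map_centralizer_of_coprime _
    (CfsgLib.Cores.card_pPrimeCore_coprime (G := X) 2) ha.isPGroup
  rwa [MonoidHom.map_zpowers, CfsgLib.Balance.centralizer_zpowers_eq,
    CfsgLib.Balance.centralizer_zpowers_eq] at h

/-- The 2-layer of a centraliser covers the 2-layer of the centraliser modulo the core. -/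
theorem map_layC {a : X} (ha : IsTwoElt a) :
    (layC a).map (QuotientGroup.mk' (pPrimeCore 2 X)) =
      layC (QuotientGroup.mk' (pPrimeCore 2 X) a) := by
  set π := QuotientGroup.mk' (pPrimeCore 2 X)
  set C := Subgroup.centralizer ({a} : Set X) with hC
  have hker : (Nat.card (π.subgroupMap C).ker).Coprime 2 := by
    have h1 : (π.subgroupMap C).ker = (pPrimeCore 2 X).subgroupOf C := by
      ext x
      rw [MonoidHom.mem_ker, Subgroup.mem_subgroupOf, ← QuotientGroup.eq_one_iff (x : X)]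
      exact ⟨fun h => congrArg Subtype.val h, fun h => Subtype.ext h⟩
    rw [h1]
    exact (CfsgLib.Cores.card_pPrimeCore_coprime 2).coprime_dvd_left
      (Subgroup.card_comap_dvd_of_injective _ _ C.subtype_injective)
  have h2 := congrArg (Subgroup.map (C.map π).subtype)
    (map_pLayer_of_ker (π.subgroupMap_surjective C) hker)
  have h3 := map_pLayer_congr (X := X ⧸ pPrimeCore 2 X) (map_centralizer_singleton ha)
  unfold layC
  rw [← h3, ← h2, Subgroup.map_map, Subgroup.map_map]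
  rfl

/-- A 2-element of the centraliser over the 2-layer of the centraliser modulo the core lies in
the 2-layer of the centraliser. -/
theorem mem_layC_of_map {a : X} (ha : IsTwoElt a) {x : X} (hx : IsTwoElt x)
    (hxa : x ∈ Subgroup.centralizer ({a} : Set X))
    (hxD : QuotientGroup.mk' (pPrimeCore 2 X) x ∈ layC (QuotientGroup.mk' (pPrimeCore 2 X) a)) :
    x ∈ layC a := by
  haveI : Fact (Nat.Prime 2) := ⟨Nat.prime_two⟩
  set π := QuotientGroup.mk' (pPrimeCore 2 X) with hπ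
  set C := Subgroup.centralizer ({a} : Set X) with hC
  rw [← map_layC ha] at hxD
  obtain ⟨_, ⟨l, hl, rfl⟩, hlx⟩ := hxD
  have hlx' : π (l : X) = π x := hlx
  -- inside the centraliser
  set xC : C := ⟨x, hxa⟩
  refine ⟨xC, mem_pLayer_of_twoElt (IsTwoElt.of_map (f := C.subtype) C.subtype_injective (x := xC) hx) ?_, rfl⟩
  rw [← CfsgLib.LBalance.map_pLayer]
  refine ⟨l, hl, ?_⟩
  refine QuotientGroup.eq.2 ?_
  have h1 : ((l⁻¹ * xC : C) : X) ∈ pPrimeCore 2 X := by
    rw [← QuotientGroup.eq_one_iff]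
    show π ((l : X)⁻¹ * x) = 1
    rw [map_mul, map_inv, hlx', inv_mul_cancel]
  exact CfsgLib.Cores.le_pPrimeCore (N := (pPrimeCore 2 X).subgroupOf C)
    ((CfsgLib.Cores.card_pPrimeCore_coprime 2).coprime_dvd_left
      (Subgroup.card_comap_dvd_of_injective _ _ C.subtype_injective)) h1

/-- A 2-element over a component of the centraliser modulo the core lies in the 2-layer of the
centraliser. -/
theorem mem_layC_of_component {a : X} (ha : IsTwoElt a) {D : Subgroup (X ⧸ pPrimeCore 2 X)}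
    (hD : D ≤ Subgroup.centralizer ({QuotientGroup.mk' (pPrimeCore 2 X) a} : Set (X ⧸ pPrimeCore 2 X)))
    (hDc : IsComponent (D.subgroupOf
      (Subgroup.centralizer ({QuotientGroup.mk' (pPrimeCore 2 X) a} : Set (X ⧸ pPrimeCore 2 X)))))
    {x : X} (hx : IsTwoElt x) (hxa : x ∈ Subgroup.centralizer ({a} : Set X))
    (hxD : QuotientGroup.mk' (pPrimeCore 2 X) x ∈ D) : x ∈ layC a := by
  haveI : Fact (Nat.Prime 2) := ⟨Nat.prime_two⟩
  by_cases hcop : (Nat.card D).Coprime 2
  · rw [eq_one_of_mem_core hx ((QuotientGroup.eq_one_iff x).1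
      ((hx.map (QuotientGroup.mk' (pPrimeCore 2 X))).eq_one_of_mem hcop hxD))]
    exact one_mem _
  have hP := isPComponent_of_isComponent (p := 2) hDc (by
    rwa [Nat.card_congr (Subgroup.subgroupOfEquivOfLe hD).toEquiv])
  refine mem_layC_of_map ha hx hxa ?_
  have hle : D ≤ layC (QuotientGroup.mk' (pPrimeCore 2 X) a) := by
    rw [← Subgroup.map_subgroupOf_eq_of_le hD]
    exact Subgroup.map_mono (CfsgLib.LBalance.le_pLayer hP)
  exact hle hxD

/-- A 2-element of a 2-component centralised by `a` modulo the core. -/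
theorem mem_layC_of_centralised {J : Subgroup X} (hJ : IsPComponent 2 J) {a : X} (ha : IsTwoElt a)
    (hc : ∀ j ∈ J, a * j * a⁻¹ * j⁻¹ ∈ pPrimeCore 2 X) {x : X} (hx : IsTwoElt x) (hxJ : x ∈ J)
    (hxa : x ∈ Subgroup.centralizer ({a} : Set X)) : x ∈ layC a := by
  set π := QuotientGroup.mk' (pPrimeCore 2 X) with hπ
  have hle : J.map π ≤ Subgroup.centralizer ({π a} : Set _) := by
    rintro _ ⟨j, hj, rfl⟩
    rw [Subgroup.mem_centralizer_singleton_iff]
    have h : π (a * j * a⁻¹ * j⁻¹) = 1 := (QuotientGroup.eq_one_iff _).2 (hc j hj)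
    rw [map_mul, map_mul, map_mul, map_inv, map_inv] at h
    exact (mul_inv_eq_iff_eq_mul.1 (mul_inv_eq_one.1 h)).symm
  exact mem_layC_of_component ha hle
    ⟨hJ.2.1.1.comap _, (CfsgLib.Cores.isQuasisimple_congr (Subgroup.subgroupOfEquivOfLe hle)).2 hJ.2.1.2⟩
    hx hxa (Subgroup.mem_map_of_mem π hxJ)

/-- The diagonal of two components swapped by an involution is a component of its centraliser. -/
theorem exists_diag_component {Y : Type*} [Group Y] [Finite Y] {H : Subgroup Y} (hH : IsComponent H)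
    {a : Y} (ha : a * a = 1) (hne : H.map (MulAut.conj a).toMonoidHom ≠ H) :
    ∃ D : Subgroup Y, D ≤ Subgroup.centralizer ({a} : Set Y) ∧
      IsComponent (D.subgroupOf (Subgroup.centralizer ({a} : Set Y))) ∧
      ∀ h ∈ H, h * (a * h * a⁻¹) ∈ D := by
  set H' := H.map (MulAut.conj a).toMonoidHom with hH'
  have hH'c : IsComponent H' := CfsgLib.Cores.isComponent_map_equiv hH (MulAut.conj a)
  have hcomm : ∀ g ∈ H, ∀ h ∈ H, Commute g (a * h * a⁻¹) := fun g hg h hh =>
    Subgroup.mem_centralizer_iff.1 (CfsgLib.Cores.le_centralizer_of_isComponent_ne hH'c hH hne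
      ⟨h, hh, rfl⟩) g hg
  let δ : H →* Y := MonoidHom.mk' (fun h => (h : Y) * (a * h * a⁻¹)) fun g h => by
    have e : Commute (a * (g : Y) * a⁻¹) (h : Y) := (hcomm h h.2 g g.2).symm
    calc ((g : Y) * h) * (a * ((g : Y) * h) * a⁻¹)
        = (g : Y) * ((h : Y) * (a * g * a⁻¹)) * (a * h * a⁻¹) := by group
      _ = (g : Y) * ((a * g * a⁻¹) * h) * (a * h * a⁻¹) := by rw [e.eq]
      _ = _ := by group
  set C := Subgroup.centralizer ({a} : Set Y) with hC
  have hmapa : ∀ h : H, a * δ h * a⁻¹ = δ h := fun h => by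
    show a * ((h : Y) * (a * h * a⁻¹)) * a⁻¹ = (h : Y) * (a * h * a⁻¹)
    calc a * ((h : Y) * (a * h * a⁻¹)) * a⁻¹
        = (a * h * a⁻¹) * ((a * a) * h * (a * a)⁻¹) := by group
      _ = (a * h * a⁻¹) * h := by rw [ha, one_mul, inv_one, mul_one]
      _ = _ := (hcomm h h.2 h h.2).eq.symm
  have hDC : δ.range ≤ C := by
    rintro _ ⟨h, rfl⟩
    exact Subgroup.mem_centralizer_singleton_iff.2 (mul_inv_eq_iff_eq_mul.1 (hmapa h)).symm
  refine ⟨δ.range, hDC, ⟨?_, ?_⟩, fun h hh => ⟨⟨h, hh⟩, rfl⟩⟩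
  · -- subnormal
    have hlay : layer Y ⊓ C ≤ Subgroup.normalizer (δ.range : Set Y) := by
      have key : ∀ y ∈ layer Y ⊓ C, ∀ h : H, y * δ h * y⁻¹ ∈ δ.range := by
        rintro y ⟨hyE, hyC⟩ h
        have hyH := Subgroup.mem_normalizer_iff.1 (CfsgLib.Cores.layer_le_normalizer hH hyE) h
        have hya : y * a = a * y := Subgroup.mem_centralizer_singleton_iff.1 hyC
        refine ⟨⟨_, hyH.1 h.2⟩, ?_⟩
        show y * (h : Y) * y⁻¹ * (a * (y * h * y⁻¹) * a⁻¹) = y * ((h : Y) * (a * h * a⁻¹)) * y⁻¹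
        calc y * (h : Y) * y⁻¹ * (a * (y * h * y⁻¹) * a⁻¹)
            = y * (h : Y) * y⁻¹ * ((a * y) * h * (a * y)⁻¹) := by group
          _ = y * (h : Y) * y⁻¹ * ((y * a) * h * (y * a)⁻¹) := by rw [hya]
          _ = _ := by group
      intro y hy
      rw [Subgroup.mem_normalizer_iff]
      intro v
      refine ⟨?_, fun hv => ?_⟩
      · rintro ⟨h, rfl⟩
        exact key y hy h
      · obtain ⟨h, hh⟩ := hv
        have := key y⁻¹ (inv_mem hy) h
        rw [hh] at this
        simpa [mul_assoc] using this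
    have hDE : δ.range ≤ layer Y ⊓ C := le_inf (by
      rintro _ ⟨h, rfl⟩
      exact mul_mem (CfsgLib.Cores.le_layer hH h.2) (CfsgLib.Cores.le_layer hH'c ⟨h, h.2, rfl⟩)) hDC
    have h1 : ((layer Y ⊓ C).subgroupOf C).Normal := by
      rw [Subgroup.inf_subgroupOf_right]
      infer_instance
    have h2 : δ.range.subgroupOf C ≤ (layer Y ⊓ C).subgroupOf C := Subgroup.comap_mono hDE
    exact Subgroup.IsSubnormal.trans h2 (Subgroup.Normal.isSubnormal
      ((Subgroup.normal_subgroupOf_iff_le_normalizer h2).2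
        ((Subgroup.comap_mono hlay).trans (Subgroup.le_normalizer_comap _))))
      (Subgroup.Normal.isSubnormal h1)
  · haveI : Nontrivial δ.range := by
      rw [Subgroup.nontrivial_iff_ne_bot]
      intro hbot
      refine CfsgLib.Cores.ne_bot_of_isComponent hH ?_
      rw [← CfsgLib.Cores.commutator_self_eq_of_isComponent hH,
        Subgroup.commutator_eq_bot_iff_le_centralizer]
      intro h hh
      rw [Subgroup.mem_centralizer_iff]
      intro g hg
      have h1 : δ ⟨h, hh⟩ = 1 := (Subgroup.mem_bot).1 (hbot ▸ ⟨⟨h, hh⟩, rfl⟩)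
      have h2 : h = (a * h * a⁻¹)⁻¹ := mul_eq_one_iff_eq_inv.1 h1
      rw [h2]
      exact (hcomm g hg h hh).inv_right
    exact (CfsgLib.Cores.isQuasisimple_congr (Subgroup.subgroupOfEquivOfLe hDC)).2
      (CfsgLib.Cores.isQuasisimple_of_surjective hH.2 δ.rangeRestrict_surjective)

/-- Products over a diagonal. -/
theorem mem_layC_of_diag {J : Subgroup X} (hJ : IsPComponent 2 J) {a : X} (ha : a * a = 1)
    (hne : J.map (MulAut.conj a).toMonoidHom ≠ J) {x : X} (hx : IsTwoElt x) (hxJ : x ∈ J)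
    (hcomm : x * (a * x * a⁻¹) = (a * x * a⁻¹) * x) : x * (a * x * a⁻¹) ∈ layC a := by
  haveI : Fact (Nat.Prime 2) := ⟨Nat.prime_two⟩
  set π := QuotientGroup.mk' (pPrimeCore 2 X) with hπ
  have hJa : IsPComponent 2 (J.map (MulAut.conj a).toMonoidHom) :=
    CfsgLib.LBalance.isPComponent_map_equiv (MulAut.conj a) hJ
  have hne' : (J.map π).map (MulAut.conj (π a)).toMonoidHom ≠ J.map π := by
    intro h
    refine hne (CfsgLib.LBalance.isPComponent_ext hJa hJ ?_)
    refine Eq.trans ?_ h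
    rw [Subgroup.map_map, Subgroup.map_map]
    congr 1
  obtain ⟨D, hDC, hDc, hD⟩ := exists_diag_component hJ.2.1 (a := π a)
    (by rw [← map_mul, ha, map_one]) hne'
  refine mem_layC_of_component (isTwoElt_of_sq ha) hDC hDc ?_ ?_ ?_
  · obtain ⟨k, hk⟩ := hx
    refine ⟨k, ?_⟩
    rw [(show Commute x (a * x * a⁻¹) from hcomm).mul_pow, conj_pow, hk]
    simp
  · rw [Subgroup.mem_centralizer_singleton_iff]
    refine (mul_inv_eq_iff_eq_mul.1 ?_).symm
    calc a * (x * (a * x * a⁻¹)) * a⁻¹ = (a * x * a⁻¹) * ((a * a) * x * (a * a)⁻¹) := by group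
      _ = (a * x * a⁻¹) * x := by rw [ha, one_mul, inv_one, mul_one]
      _ = _ := hcomm.symm
  · rw [map_mul, map_mul, map_mul, map_inv]
    exact hD _ (Subgroup.mem_map_of_mem π hxJ)

/-- An element of the layer acts on a component as one of its elements. -/
theorem exists_inner {Y : Type*} [Group Y] [Finite Y] {H : Subgroup Y} (hH : IsComponent H)
    {v : Y} (hv : v ∈ layer Y) :
    ∃ u ∈ H, u⁻¹ * v ∈ Subgroup.centralizer (H : Set Y) := by
  have hdec : layer Y ≤ H ⊔ Subgroup.centralizer (H : Set Y) :=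
    CfsgLib.Cores.layer_le_iff.2 fun L hL => by
      by_cases hLH : L = H
      · rw [hLH]; exact le_sup_left
      · exact le_sup_of_le_right (CfsgLib.Cores.le_centralizer_of_isComponent_ne hL hH hLH)
  have h1 : v ∈ ((H ⊔ Subgroup.centralizer (H : Set Y) : Subgroup Y) : Set Y) := hdec hv
  rw [Subgroup.coe_mul_of_right_le_normalizer_left H _ (Subgroup.centralizer_le_normalizer _)] at h1
  obtain ⟨u, hu, r, hr, rfl⟩ := h1
  exact ⟨u, hu, by simpa using hr⟩

/-- Inner images of elements fixed by `a` have commutators fixed by `a`. -/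
theorem commutator_fixed {Y : Type*} [Group Y] [Finite Y] {H : Subgroup Y}
    {a : Y} (haH : a ∈ Subgroup.normalizer (H : Set Y)) {u v r s : Y} (hu : u ∈ H) (hv : v ∈ H)
    (hr : r ∈ Subgroup.centralizer (H : Set Y)) (hs : s ∈ Subgroup.centralizer (H : Set Y))
    (hau : a * (u * r) * a⁻¹ = u * r) (hav : a * (v * s) * a⁻¹ = v * s) :
    a * ⁅u, v⁆ * a⁻¹ = ⁅u, v⁆ := by
  have hz : ∀ w t : Y, w ∈ H → t ∈ Subgroup.centralizer (H : Set Y) →
      a * (w * t) * a⁻¹ = w * t →
      a * w * a⁻¹ ∈ H ∧ ∀ y ∈ H, y * (w⁻¹ * (a * w * a⁻¹)) = (w⁻¹ * (a * w * a⁻¹)) * y := by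
    intro w t hw ht hwt
    have haw : a * w * a⁻¹ ∈ H := (Subgroup.mem_normalizer_iff.1 haH w).1 hw
    refine ⟨haw, fun y hy => ?_⟩
    have hat : a * t * a⁻¹ ∈ Subgroup.centralizer (H : Set Y) := by
      rw [Subgroup.mem_centralizer_iff]
      intro y' hy'
      have hy'' : a⁻¹ * y' * a ∈ H :=
        (Subgroup.mem_normalizer_iff.1 haH _).2 (by simpa [mul_assoc] using hy')
      have := Subgroup.mem_centralizer_iff.1 ht _ hy''
      calc y' * (a * t * a⁻¹) = a * ((a⁻¹ * y' * a) * t) * a⁻¹ := by group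
        _ = a * (t * (a⁻¹ * y' * a)) * a⁻¹ := by rw [this]
        _ = _ := by group
    have e : w⁻¹ * (a * w * a⁻¹) = t * (a * t * a⁻¹)⁻¹ := by
      rw [eq_mul_inv_iff_mul_eq]
      calc w⁻¹ * (a * w * a⁻¹) * (a * t * a⁻¹) = w⁻¹ * (a * (w * t) * a⁻¹) := by group
        _ = t := by rw [hwt, inv_mul_cancel_left]
    rw [e]
    exact Subgroup.mem_centralizer_iff.1 (mul_mem ht (inv_mem hat)) y hy
  obtain ⟨hau', cu⟩ := hz u r hu hr hau
  obtain ⟨hav', cv⟩ := hz v s hv hs hav
  obtain ⟨z, hzdef⟩ : ∃ z, z = u⁻¹ * (a * u * a⁻¹) := ⟨_, rfl⟩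
  obtain ⟨w, hwdef⟩ : ∃ w, w = v⁻¹ * (a * v * a⁻¹) := ⟨_, rfl⟩
  have hau2 : a * u * a⁻¹ = u * z := by rw [hzdef, mul_inv_cancel_left]
  have hav2 : a * v * a⁻¹ = v * w := by rw [hwdef, mul_inv_cancel_left]
  have hzH : z ∈ H := by rw [hzdef]; exact mul_mem (inv_mem hu) hau'
  have hwH : w ∈ H := by rw [hwdef]; exact mul_mem (inv_mem hv) hav'
  rw [← hzdef] at cu
  rw [← hwdef] at cv
  rw [commutatorElement_def]
  calc a * (u * v * u⁻¹ * v⁻¹) * a⁻¹
      = (a * u * a⁻¹) * (a * v * a⁻¹) * (a * u * a⁻¹)⁻¹ * (a * v * a⁻¹)⁻¹ := by group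
    _ = u * (z * (v * w) * z⁻¹) * u⁻¹ * w⁻¹ * v⁻¹ := by rw [hau2, hav2]; group
    _ = u * (v * w) * u⁻¹ * w⁻¹ * v⁻¹ := by
        rw [← cu (v * w) (mul_mem hv hwH), mul_inv_cancel_right]
    _ = u * v * (w * u⁻¹) * w⁻¹ * v⁻¹ := by group
    _ = u * v * (u⁻¹ * w) * w⁻¹ * v⁻¹ := by rw [cv u⁻¹ (inv_mem hu)]
    _ = _ := by group

/-- The 2-layer of the centraliser of an involution `a` normalising a 2-component `J` centralises
`J` modulo the core, unless it contains a 2-component inside `J`. -/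
theorem layC_centralises {J : Subgroup X} (hJ : IsPComponent 2 J) {a : X} (ha : orderOf a = 2)
    (haJ : a ∈ Subgroup.normalizer (J : Set X))
    (hno : ∀ P : Subgroup X, P ≤ J → P ≤ layC a →
      ⁅P.map (QuotientGroup.mk' (pPrimeCore 2 X)), P.map (QuotientGroup.mk' (pPrimeCore 2 X))⁆ =
        P.map (QuotientGroup.mk' (pPrimeCore 2 X)) → 2 ∣ Nat.card P → False)
    {x : X} (hx : x ∈ layC a) {j : X} (hj : j ∈ J) :
    x * j * x⁻¹ * j⁻¹ ∈ pPrimeCore 2 X := by
  haveI : Fact (Nat.Prime 2) := ⟨Nat.prime_two⟩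
  set π := QuotientGroup.mk' (pPrimeCore 2 X) with hπ
  have hat : IsTwoElt a := isTwoElt_of_sq (CfsgLib.Involutions.mul_self_eq_one ha)
  set H := J.map π with hHdef
  have hH : IsComponent H := hJ.2.1
  set C := Subgroup.centralizer ({a} : Set X) with hC
  set Cb := Subgroup.centralizer ({π a} : Set (X ⧸ pPrimeCore 2 X)) with hCb
  have hCmap : C.map π = Cb := map_centralizer_singleton hat
  set R := Subgroup.centralizer (H : Set (X ⧸ pPrimeCore 2 X)) with hR
  set W := H ⊓ Cb with hW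
  set Q := (pPrimeCore 2 ↥Cb).map Cb.subtype with hQ
  set L := (layC a).map π with hL
  have hLCb : L ≤ Cb := hCmap ▸ Subgroup.map_mono (layC_le_centralizer a)
  have hLE : L ≤ layer (X ⧸ pPrimeCore 2 X) := by
    rw [← CfsgLib.LBalance.map_pLayer]; exact Subgroup.map_mono (layC_le_pLayer hat)
  have haH : π a ∈ Subgroup.normalizer (H : Set (X ⧸ pPrimeCore 2 X)) :=
    Subgroup.le_normalizer_map π ⟨a, haJ, rfl⟩
  -- every component of the centraliser commutes with `W` modulo the core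
  have hLW : ∀ l ∈ L, ∀ w ∈ W, ⁅l, w⁆ ∈ Q := by
    have hsub : (W.subgroupOf Cb).IsSubnormal := by
      rw [hW, Subgroup.inf_subgroupOf_right]; exact hH.1.comap _
    rw [hL, map_layC hat]
    rintro _ ⟨l, hl, rfl⟩ w hw
    set σ := QuotientGroup.mk' (pPrimeCore 2 ↥Cb) with hσ
    have hle : (pLayer 2 ↥Cb).map σ ≤
        Subgroup.centralizer ((W.subgroupOf Cb).map σ : Set (↥Cb ⧸ pPrimeCore 2 ↥Cb)) := by
      refine Subgroup.map_le_iff_le_comap.2 (sSup_le fun K hK => Subgroup.map_le_iff_le_comap.1 ?_)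
      rcases CfsgLib.Cores.le_or_commutator_eq_bot hK.2.1 (hsub.map (QuotientGroup.mk'_surjective _))
        with h | h
      · exfalso
        have hKW : K ≤ W.subgroupOf Cb := CfsgLib.LBalance.le_of_isPComponent_of_cover hK hsub h
        -- pull back into the centraliser in `X`
        set Kb := K.map Cb.subtype with hKb
        set P := CfsgLib.LBalance.pElemClosure 2 (C ⊓ Kb.comap π) with hP
        have hPmap : P.map π = Kb := by
          have e : (C ⊓ Kb.comap π).map π = Kb := by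
            refine le_antisymm ?_ fun v hv => ?_
            · rintro _ ⟨v, hv, rfl⟩; exact hv.2
            · obtain ⟨c, hc, rfl⟩ := hCmap.ge (Subgroup.map_subtype_le K hv)
              exact ⟨c, ⟨hc, hv⟩, rfl⟩
          rw [hP, CfsgLib.LBalance.map_pElemClosure, e, hKb,
            ← CfsgLib.LBalance.map_pElemClosure, CfsgLib.LBalance.pElemClosure_of_isPComponent hK]
        refine hno P ?_ ?_ ?_ ?_
        · refine CfsgLib.LBalance.pElemClosure_le_iff.2 fun y hy hk => ?_
          obtain ⟨v, hv, hvy⟩ := hy.2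
          exact mem_pComponent_of_twoElt hJ hk (hvy ▸ (hKW hv).1)
        · refine CfsgLib.LBalance.pElemClosure_le_iff.2 fun y hy hk => ?_
          refine mem_layC_of_map hat hk hy.1 ?_
          obtain ⟨v, hv, hvy⟩ := hy.2
          exact ⟨v, CfsgLib.LBalance.le_pLayer hK hv, hvy⟩
        · rw [hPmap, hKb, ← Subgroup.map_commutator,
            CfsgLib.LBalance.commutator_self_of_isPComponent hK]
        · by_contra h2
          refine CfsgLib.Cores.ne_bot_of_isComponent hK.2.1 ?_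
          rw [Subgroup.map_eq_bot_iff, QuotientGroup.ker_mk']
          refine CfsgLib.Cores.le_pPrimeCore_of_subnormal hK.1 ?_
          rw [← Subgroup.card_subtype Cb K, ← hKb, ← hPmap]
          exact ((Nat.prime_two.coprime_iff_not_dvd.2 h2).symm).coprime_dvd_left
            (Subgroup.card_map_dvd P π)
      · exact Subgroup.commutator_eq_bot_iff_le_centralizer.1 h
    refine ⟨⁅l, ⟨w, hw.2⟩⁆, ?_, map_commutatorElement Cb.subtype _ _⟩
    show ⁅l, (⟨w, hw.2⟩ : Cb)⁆ ∈ pPrimeCore 2 ↥Cb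
    rw [← QuotientGroup.eq_one_iff]
    show σ _ = 1
    rw [map_commutatorElement, commutatorElement_eq_one_iff_mul_comm]
    exact (Subgroup.mem_centralizer_iff.1 (hle ⟨l, hl, rfl⟩) _
      ⟨⟨w, hw.2⟩, hw, rfl⟩).symm
  -- the layer of the centraliser is perfect and generated by 2-elements
  have hLperf : ⁅L, L⁆ = L := by
    have h : ⁅pLayer 2 ↥C, pLayer 2 ↥C⁆ = pLayer 2 ↥C := by
      refine le_antisymm (Subgroup.commutator_le_self _) (sSup_le fun K hK => ?_)
      conv_lhs => rw [← CfsgLib.LBalance.commutator_self_of_isPComponent hK]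
      exact Subgroup.commutator_mono (CfsgLib.LBalance.le_pLayer hK) (CfsgLib.LBalance.le_pLayer hK)
    rw [hL]
    unfold layC
    rw [← Subgroup.map_commutator, ← Subgroup.map_commutator, h]
  have hLgen : CfsgLib.LBalance.pElemClosure 2 L = L := by
    rw [hL]
    unfold layC
    rw [← CfsgLib.LBalance.map_pElemClosure, ← CfsgLib.LBalance.map_pElemClosure,
      CfsgLib.LBalance.pLayer_eq, CfsgLib.LBalance.pElemClosure_idem]
  have hLH : L ≤ Subgroup.normalizer (H : Set (X ⧸ pPrimeCore 2 X)) :=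
    hLE.trans (CfsgLib.Cores.layer_le_normalizer hH)
  have hfix : ∀ l ∈ L, π a * l * (π a)⁻¹ = l := fun l hl =>
    mul_inv_eq_iff_eq_mul.2 (Subgroup.mem_centralizer_singleton_iff.1 (hLCb hl)).symm
  -- commutators lie in `W ⊔ R`
  have hstep1 : L ≤ W ⊔ R := by
    conv_lhs => rw [← hLperf]
    rw [Subgroup.commutator_le]
    intro u hu v hv
    obtain ⟨u', hu', hr⟩ := exists_inner hH (hLE hu)
    obtain ⟨v', hv', hs⟩ := exists_inner hH (hLE hv)
    obtain ⟨r, hrdef⟩ : ∃ r, r = u'⁻¹ * u := ⟨_, rfl⟩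
    obtain ⟨s, hsdef⟩ : ∃ s, s = v'⁻¹ * v := ⟨_, rfl⟩
    rw [← hrdef] at hr
    rw [← hsdef] at hs
    have hue : u = u' * r := by rw [hrdef, mul_inv_cancel_left]
    have hve : v = v' * s := by rw [hsdef, mul_inv_cancel_left]
    have hc := commutator_fixed haH hu' hv' hr hs (hue ▸ hfix u hu) (hve ▸ hfix v hv)
    have c1 : v' * r = r * v' := Subgroup.mem_centralizer_iff.1 hr v' hv'
    have c2 : u'⁻¹ * s = s * u'⁻¹ := Subgroup.mem_centralizer_iff.1 hs _ (inv_mem hu')
    have c3 : v'⁻¹ * (r * s * r⁻¹ * s⁻¹) = (r * s * r⁻¹ * s⁻¹) * v'⁻¹ :=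
      Subgroup.mem_centralizer_iff.1 (show r * s * r⁻¹ * s⁻¹ ∈ R from
        mul_mem (mul_mem (mul_mem hr hs) (inv_mem hr)) (inv_mem hs)) _ (inv_mem hv')
    have c4 : u'⁻¹ * (r * s * r⁻¹) = (r * s * r⁻¹) * u'⁻¹ :=
      Subgroup.mem_centralizer_iff.1 (show r * s * r⁻¹ ∈ R from
        mul_mem (mul_mem hr hs) (inv_mem hr)) _ (inv_mem hu')
    have e : ⁅u, v⁆ = ⁅u', v'⁆ * ⁅r, s⁆ := by
      rw [hue, hve]
      simp only [commutatorElement_def]
      calc u' * r * (v' * s) * (u' * r)⁻¹ * (v' * s)⁻¹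
          = u' * (r * v') * s * r⁻¹ * u'⁻¹ * s⁻¹ * v'⁻¹ := by group
        _ = u' * (v' * r) * s * r⁻¹ * u'⁻¹ * s⁻¹ * v'⁻¹ := by rw [c1]
        _ = u' * v' * ((r * s * r⁻¹) * u'⁻¹) * s⁻¹ * v'⁻¹ := by group
        _ = u' * v' * (u'⁻¹ * (r * s * r⁻¹)) * s⁻¹ * v'⁻¹ := by rw [c4]
        _ = u' * v' * u'⁻¹ * ((r * s * r⁻¹ * s⁻¹) * v'⁻¹) := by group
        _ = u' * v' * u'⁻¹ * (v'⁻¹ * (r * s * r⁻¹ * s⁻¹)) := by rw [c3]
        _ = _ := by group
    rw [e]
    refine Subgroup.mul_mem_sup (Subgroup.mem_inf.2 ⟨?_, ?_⟩) ?_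
    · rw [commutatorElement_def]
      exact mul_mem (mul_mem (mul_mem hu' hv') (inv_mem hu')) (inv_mem hv')
    · exact Subgroup.mem_centralizer_singleton_iff.2 (mul_inv_eq_iff_eq_mul.1 hc).symm
    · rw [commutatorElement_def]
      exact mul_mem (mul_mem (mul_mem hr hs) (inv_mem hr)) (inv_mem hs)
  have hstep2 : L ≤ (Q ⊓ H) ⊔ R := by
    conv_lhs => rw [← hLperf]
    rw [Subgroup.commutator_le]
    intro t ht y hy
    have h1 : y ∈ ((W ⊔ R : Subgroup _) : Set (X ⧸ pPrimeCore 2 X)) := hstep1 hy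
    rw [Subgroup.coe_mul_of_right_le_normalizer_left W R (fun r hr =>
      Subgroup.centralizer_le_normalizer _ (Subgroup.centralizer_le (inf_le_left : W ≤ H) hr))] at h1
    obtain ⟨w, hw, c, hc, rfl⟩ := h1
    have hwH : w ∈ H := hw.1
    have htH := Subgroup.mem_normalizer_iff.1 (hLH ht)
    have hcR : t * c * t⁻¹ * c⁻¹ ∈ R := by
      refine mul_mem ?_ (inv_mem hc)
      rw [hR, Subgroup.mem_centralizer_iff]
      intro h hh
      have hh' : t⁻¹ * h * t ∈ H := (htH _).2 (by simpa [mul_assoc] using hh)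
      calc h * (t * c * t⁻¹) = t * ((t⁻¹ * h * t) * c) * t⁻¹ := by group
        _ = t * (c * (t⁻¹ * h * t)) * t⁻¹ := by rw [Subgroup.mem_centralizer_iff.1 hc _ hh']
        _ = _ := by group
    have e : ⁅t, w * c⁆ = ⁅t, w⁆ * (t * c * t⁻¹ * c⁻¹) := by
      simp only [commutatorElement_def]
      calc t * (w * c) * t⁻¹ * (w * c)⁻¹
          = t * w * t⁻¹ * ((t * c * t⁻¹ * c⁻¹) * w⁻¹) := by group
        _ = t * w * t⁻¹ * (w⁻¹ * (t * c * t⁻¹ * c⁻¹)) := by
            rw [Subgroup.mem_centralizer_iff.1 hcR _ (inv_mem hwH)]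
        _ = _ := by group
    rw [e]
    refine Subgroup.mul_mem_sup (Subgroup.mem_inf.2 ⟨hLW t ht w hw, ?_⟩) hcR
    rw [commutatorElement_def]
    exact mul_mem ((htH w).1 hwH) (inv_mem hwH)
  have hLR : L ≤ R := by
    rw [← hLgen]
    refine CfsgLib.LBalance.pElemClosure_le_iff.2 fun y hy ⟨k, hk⟩ => ?_
    refine CfsgLib.LBalance.mem_of_pow_mem_of_coprime hk (n := Nat.card Q) ?_ ?_
    · have h1 : y ∈ (((Q ⊓ H) ⊔ R : Subgroup _) : Set (X ⧸ pPrimeCore 2 X)) := hstep2 hy
      rw [Subgroup.coe_mul_of_right_le_normalizer_left (Q ⊓ H) R (fun r hr =>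
        Subgroup.centralizer_le_normalizer _ (Subgroup.centralizer_le (inf_le_right : Q ⊓ H ≤ H) hr))]
        at h1
      obtain ⟨q, hq, c, hc, rfl⟩ := h1
      rw [(show Commute q c from Subgroup.mem_centralizer_iff.1 hc q hq.2).mul_pow,
        orderOf_dvd_iff_pow_eq_one.1 (Subgroup.orderOf_dvd_natCard Q hq.1), one_mul]
      exact pow_mem hc _
    · rw [hQ, Subgroup.card_subtype]
      exact CfsgLib.Cores.card_pPrimeCore_coprime 2
  have h := Subgroup.mem_centralizer_iff.1 (hLR (Subgroup.mem_map_of_mem π hx)) _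
    (Subgroup.mem_map_of_mem π hj)
  rw [← QuotientGroup.eq_one_iff]
  show π (x * j * x⁻¹ * j⁻¹) = 1
  rw [map_mul, map_mul, map_mul, map_inv, map_inv, ← h]
  group

end Cover

end CfsgLib.Signalizer
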