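import Cfsg.Prelude.Def_Local
import Cfsg.Agent.Lib.Signalizer.CompTools
import Cfsg.Agent.Lib.Signalizer.ComponentBalance
import Cfsg.Agent.Lib.Balance.ComponentNormal

/-!
Components of centralizers of involutions in the layer and the trichotomy for standard subgroups,
assuming that the subgroups of odd order are solvable.
-/

set_option autoImplicit false
set_option linter.style.haveILetI false

open scoped commutatorElement

namespace CfsgLib.Signalizer

open Cfsg CfsgLib.CoprimeAction

universe u

variable {G : Type u} [Group G] [Finite G]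

theorem isComponent_subgroupOf_le_pLayer
    (hsol : ∀ Y : Subgroup G, Odd (Nat.card Y) → Group.IsSolvable Y) {t : G} (ht : t * t = 1)
    {L : Subgroup G} (hLt : L ≤ Subgroup.centralizer ({t} : Set G))
    (hL : IsComponent (L.subgroupOf (Subgroup.centralizer ({t} : Set G)))) : L ≤ pLayer 2 G := by
  haveI : Fact (Nat.Prime 2) := ⟨Nat.prime_two⟩
  set C := Subgroup.centralizer ({t} : Set G)
  have hq : IsQuasisimple ↥L := (CfsgLib.Cores.isQuasisimple_subgroupOf hLt).1 hL.2
  have hev : ¬ (Nat.card (L.subgroupOf C)).Coprime 2 := fun h => by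
    rw [Nat.card_congr (Subgroup.subgroupOfEquivOfLe hLt).toEquiv] at h
    exact CfsgLib.Cores.not_isSolvable_of_isQuasisimple hq
      (hsol L (Nat.coprime_two_right.mp h))
  refine le_trans ?_ (layC_le_pLayer (isTwoElt_of_sq ht))
  intro x hx
  exact ⟨⟨x, hLt hx⟩,
    CfsgLib.LBalance.le_pLayer (isPComponent_of_isComponent hL hev) hx, rfl⟩

/-- The fixed part of a pair of commuting conjugate components. -/
theorem centralizes_of_mul_commute {D D' : Subgroup G} (hD : IsComponent D)
    (hDD : D ≤ Subgroup.centralizer (D' : Set G)) {f : G → G} (hf : ∀ h ∈ D, f h ∈ D')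
    {u v : G} (hu : u ∈ D) (hv : v ∈ D')
    (hc : ∀ h ∈ D, (u * v) * (h * f h) = (h * f h) * (u * v)) :
    u ∈ Subgroup.centralizer (D : Set G) := by
  have hcm : ∀ {x y : G}, x ∈ D → y ∈ D' → y * x = x * y := fun {x y} hx hy =>
    Subgroup.mem_centralizer_iff.mp (hDD hx) y hy
  have key : ∀ h ∈ D, ⁅h, u⁆ ∈ Subgroup.centralizer (D : Set G) := by
    intro h hh
    have h1 := hc h hh
    have hl : u * v * (h * f h) = u * h * (v * f h) := by
      rw [mul_assoc u v, ← mul_assoc v h, hcm hh hv]; simp [mul_assoc]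
    have hr : h * f h * (u * v) = h * u * (f h * v) := by
      rw [mul_assoc h (f h), ← mul_assoc (f h) u, hcm hu (hf h hh)]; simp [mul_assoc]
    rw [hl, hr] at h1
    have h2 : (h * u)⁻¹ * (u * h) = f h * v * (v * f h)⁻¹ := by
      rw [eq_mul_inv_iff_mul_eq, mul_assoc, h1, inv_mul_cancel_left]
    have h3 : (h * u)⁻¹ * (u * h) ∈ Subgroup.centralizer (D : Set G) := by
      rw [h2]
      have hD' : D' ≤ Subgroup.centralizer (D : Set G) := Subgroup.le_centralizer_iff.1 hDD
      exact hD' (D'.mul_mem (D'.mul_mem (hf h hh) hv) (D'.inv_mem (D'.mul_mem hv (hf h hh))))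
    have hconj : ⁅h, u⁆ = (u * h) * ((h * u)⁻¹ * (u * h))⁻¹ * (u * h)⁻¹ := by
      simp [commutatorElement_def, mul_assoc]
    rw [hconj]
    exact conj_mem ((show D ≤ Subgroup.normalizer
      ((Subgroup.centralizer (D : Set G) : Subgroup G) : Set G) from fun d hd =>
        mem_normalizer_of_conj_mem fun z hz => by
          rw [Subgroup.mem_centralizer_iff.mp hz d hd, mul_inv_cancel_right]
          exact hz) (D.mul_mem hu hh)) (Subgroup.inv_mem _ h3)
  have h4 : ⁅D, Subgroup.zpowers u⁆ = ⊥ := by
    refine CfsgLib.Balance.commutator_eq_bot_of_le_centralizer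
      (CfsgLib.Cores.commutator_self_eq_of_isComponent hD) (Subgroup.commutator_le.mpr ?_)
    intro h hh z hz
    obtain ⟨i, rfl⟩ := Subgroup.mem_zpowers_iff.mp hz
    have hS : u ∈ (⟨⟨⟨{z : G | z ∈ D ∧ ∀ h ∈ D, ⁅h, z⁆ ∈ Subgroup.centralizer (D : Set G)},
        fun {a b} ha hb => ⟨D.mul_mem ha.1 hb.1, fun h hh => by
          rw [show ⁅h, a * b⁆ = ⁅h, a⁆ * (a * ⁅h, b⁆ * a⁻¹) by
            simp [commutatorElement_def, mul_assoc]]
          refine Subgroup.mul_mem _ (ha.2 h hh) ?_
          rw [Subgroup.mem_centralizer_iff.mp (hb.2 h hh) a ha.1, mul_inv_cancel_right]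
          exact hb.2 h hh⟩⟩, ⟨D.one_mem, fun h _ => by simp⟩⟩,
        fun {a} ha => ⟨D.inv_mem ha.1, fun h hh => by
          have h0 := Subgroup.inv_mem _ (ha.2 h hh)
          have e : ⁅h, a⁻¹⁆ = a⁻¹ * ⁅h, a⁆⁻¹ * a := by simp [commutatorElement_def, mul_assoc]
          rw [e, Subgroup.mem_centralizer_iff.mp h0 a⁻¹ (D.inv_mem ha.1), inv_mul_cancel_right]
          exact h0⟩⟩ : Subgroup G) := ⟨hu, key⟩
    exact ((zpow_mem hS i).2) h hh
  exact Subgroup.le_centralizer_iff.1 (Subgroup.commutator_eq_bot_iff_le_centralizer.1 h4)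
    (Subgroup.mem_zpowers u)

/-- **Components of the centralizer of an involution.** -/
theorem component_trichotomy (hsol : ∀ Y : Subgroup G, Odd (Nat.card Y) → Group.IsSolvable Y)
    (hL2 : pLayer 2 G = layer G) {t : G} (ht : orderOf t = 2) {L : Subgroup G}
    (hLt : L ≤ Subgroup.centralizer ({t} : Set G))
    (hL : IsComponent (L.subgroupOf (Subgroup.centralizer ({t} : Set G)))) :
    ∃ D : Subgroup G, IsComponent D ∧
      ((L = D) ∨ (L < D ∧ D = ⁅D, Subgroup.zpowers t⁆) ∨
        (D.map (MulAut.conj t).toMonoidHom ≠ D ∧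
          (∀ h ∈ D, h * (t * h * t⁻¹) ∈ L) ∧ (∀ k ∈ L, ∃ h ∈ D, k = h * (t * h * t⁻¹)) ∧
          L = (layer ↥((D ⊔ D.map (MulAut.conj t).toMonoidHom) ⊓
            Subgroup.centralizer ({t} : Set G))).map
            ((D ⊔ D.map (MulAut.conj t).toMonoidHom) ⊓
              Subgroup.centralizer ({t} : Set G)).subtype)) := by
  have htt : t * t = 1 := by rw [← pow_two, ← ht, pow_orderOf_eq_one]
  have hLE : L ≤ layer G := hL2 ▸ isComponent_subgroupOf_le_pLayer hsol htt hLt hL
  obtain ⟨D, hD, hcase⟩ := component_of_centralizer_in_layer htt hLt hL hLE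
  refine ⟨D, hD, ?_⟩
  rcases hcase with ⟨hfix, hle⟩ | ⟨hmov, hin, hout⟩
  · rcases eq_or_lt_of_le hle with h | h
    · exact Or.inl h
    · refine Or.inr (Or.inl ⟨h, ?_⟩)
      rcases CfsgLib.Balance.commutator_zpowers_eq_bot_or_self hD
        (Subgroup.mem_normalizer_iff_map_conj_eq.2 hfix) with h' | h'
      · exact h'.symm
      · exfalso
        have hDt : D ≤ Subgroup.centralizer ({t} : Set G) := fun d hd =>
          Subgroup.mem_centralizer_singleton_iff.mpr (Subgroup.mem_centralizer_iff.mp
            (Subgroup.commutator_eq_bot_iff_le_centralizer.1 h' hd) t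
            (Subgroup.mem_zpowers t)).symm
        have := CfsgLib.Cores.eq_of_le_of_isComponent hL
          (CfsgLib.Cores.isComponent_subgroupOf hD hDt)
          (fun x hx => h.le hx)
        have h2 := congrArg (Subgroup.map (Subgroup.centralizer ({t} : Set G)).subtype) this
        rw [Subgroup.map_subgroupOf_eq_of_le hLt, Subgroup.map_subgroupOf_eq_of_le hDt] at h2
        exact h.ne h2
  · refine Or.inr (Or.inr ⟨hmov, hin, hout, ?_⟩)
    set D' := D.map (MulAut.conj t).toMonoidHom with hD'
    set W := (D ⊔ D') ⊓ Subgroup.centralizer ({t} : Set G) with hW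
    have hD'c : IsComponent D' := CfsgLib.Cores.isComponent_map_equiv hD (MulAut.conj t)
    have hmap : ∀ h ∈ D, t * h * t⁻¹ ∈ D' := fun h hh => ⟨h, hh, rfl⟩
    have hDD : D ≤ Subgroup.centralizer (D' : Set G) :=
      CfsgLib.Cores.le_centralizer_of_isComponent_ne hD hD'c hmov.symm
    have hLW : L ≤ W := fun k hk => by
      obtain ⟨h, hh, rfl⟩ := hout k hk
      exact ⟨Subgroup.mul_mem_sup hh (hmap h hh), hLt hk⟩
    have hLWc : IsComponent (L.subgroupOf W) := by
      refine ⟨?_, (CfsgLib.Cores.isQuasisimple_subgroupOf hLW).2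
        ((CfsgLib.Cores.isQuasisimple_subgroupOf hLt).1 hL.2)⟩
      exact hL.1.comap (Subgroup.inclusion (inf_le_right : W ≤ _))
    refine le_antisymm ?_ ?_
    · intro x hx
      exact ⟨⟨x, hLW hx⟩, CfsgLib.Cores.le_layer hLWc hx, rfl⟩
    · refine Subgroup.map_le_iff_le_comap.2 (CfsgLib.Cores.layer_le_iff.2 fun M hM => ?_)
      rcases eq_or_ne M (L.subgroupOf W) with rfl | hne
      · exact le_rfl
      exfalso
      have hcM := CfsgLib.Cores.le_centralizer_of_isComponent_ne hM hLWc hne
      have hcen : ∀ m ∈ M, (m : G) ∈ Subgroup.centralizer ((D ⊔ D' : Subgroup G) : Set G) := by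
        intro m hm
        have hm' : (m : G) ∈ ((D ⊔ D' : Subgroup G) : Set G) := m.2.1
        rw [Subgroup.coe_mul_of_left_le_normalizer_right D D'
          (hDD.trans (Subgroup.centralizer_le_normalizer _))] at hm'
        obtain ⟨u, hu, v, hv, huv⟩ := hm'
        change u * v = (m : G) at huv
        have hcomm : ∀ h ∈ D, (u * v) * (h * (t * h * t⁻¹)) = (h * (t * h * t⁻¹)) * (u * v) :=
          fun h hh => by
            rw [huv]
            exact (congrArg Subtype.val (Subgroup.mem_centralizer_iff.mp (hcM hm)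
              ⟨_, hLW (hin h hh)⟩ (hin h hh))).symm
        have hu' := centralizes_of_mul_commute hD hDD hmap hu hv hcomm
        -- the same for the conjugate
        have hD'D : D' ≤ Subgroup.centralizer (D : Set G) := Subgroup.le_centralizer_iff.1 hDD
        have hback : ∀ h ∈ D', t * h * t⁻¹ ∈ D := by
          rintro _ ⟨h, hh, rfl⟩
          have : t * (t * h * t⁻¹) * t⁻¹ = h := by
            calc t * (t * h * t⁻¹) * t⁻¹ = (t * t) * h * (t * t)⁻¹ := by simp [mul_assoc]
              _ = h := by simp [htt]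
          simpa [this] using hh
        have hswap : v * u = u * v := (Subgroup.mem_centralizer_iff.mp (hDD hu) v hv)
        have hv' := centralizes_of_mul_commute hD'c hD'D hback hv hu fun h hh => by
          have hh' : t * (t * h * t⁻¹) * t⁻¹ = h := by
            calc t * (t * h * t⁻¹) * t⁻¹ = (t * t) * h * (t * t)⁻¹ := by simp [mul_assoc]
              _ = h := by simp [htt]
          have := hcomm _ (hback h hh)
          rw [hh'] at this
          have hc2 : t * h * t⁻¹ * h = h * (t * h * t⁻¹) :=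
            (Subgroup.mem_centralizer_iff.mp (hDD (hback h hh)) h hh).symm
          rw [hc2] at this
          rwa [hswap]
        rw [CfsgLib.LBalance.centralizer_sup, ← huv]
        exact ⟨Subgroup.mul_mem _ hu' (hD'D hv), Subgroup.mul_mem _ (hDD hu) hv'⟩
      refine CfsgLib.Cores.ne_bot_of_isComponent hM ?_
      rw [← CfsgLib.Cores.commutator_self_eq_of_isComponent hM,
        Subgroup.commutator_eq_bot_iff_le_centralizer]
      intro m hm
      exact Subgroup.mem_centralizer_iff.mpr fun m' hm' => Subtype.ext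
        (Subgroup.mem_centralizer_iff.mp (hcen m hm) (m' : G) m'.2.1)

/-- **Standard subgroups of a core-free group.** -/
theorem standard_trichotomy (hsol : ∀ Y : Subgroup G, Odd (Nat.card Y) → Group.IsSolvable Y)
    {A : Subgroup G} (hA : IsStandardSubgroup A) (hO : pPrimeCore 2 G = ⊥) {t : G}
    (ht : orderOf t = 2) (htA : t ∈ Subgroup.centralizer (A : Set G)) :
    A.Normal ∨ (∃ X : Subgroup G, IsSimpleGroup ↥X ∧ ¬ IsMulCommutative ↥X ∧
        Nonempty (↥X ≃* ↥A) ∧
        (∀ a ∈ X, ∀ b ∈ X.map (MulAut.conj t).toMonoidHom, a * b = b * a) ∧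
        X ⊓ X.map (MulAut.conj t).toMonoidHom = ⊥ ∧
        X ⊔ X.map (MulAut.conj t).toMonoidHom = layer G ∧
        Subgroup.centralizer (A : Set G) = Subgroup.zpowers t) ∨
      (A ≤ layer G ∧ IsSimpleGroup ↥(layer G) ∧ ¬ IsMulCommutative ↥(layer G)) := by
  haveI : Fact (Nat.Prime 2) := ⟨Nat.prime_two⟩
  obtain ⟨hAq, ⟨-, htight⟩, hnc, hnorm⟩ := hA
  by_cases hnA : A.Normal
  · exact Or.inl hnA
  right
  have htt : t * t = 1 := by rw [← pow_two, ← ht, pow_orderOf_eq_one]
  set K := Subgroup.centralizer (A : Set G) with hK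
  have hperfA : ⁅A, A⁆ = A := Subgroup.isPerfect_iff.1 hAq.1
  -- an element of `K` whose conjugate by `g` again lies in `K` forces `g ∈ N(A)`
  have key : ∀ {g x : G}, orderOf x = 2 → x ∈ K → g⁻¹ * x * g ∈ K →
      g ∈ Subgroup.normalizer (A : Set G) := by
    intro g x hx hxK hgx
    rw [hnorm]
    by_contra hg
    have h := htight g hg
    have hmem : x ∈ K ⊓ K.map (MulAut.conj g).toMonoidHom :=
      ⟨hxK, g⁻¹ * x * g, hgx, by simp [mul_assoc]⟩
    have hd := hx ▸ Subgroup.orderOf_dvd_natCard _ hmem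
    exact absurd (even_iff_two_dvd.2 hd) (Nat.not_even_iff_odd.2 h)
  have hnormal : ∀ R : Subgroup G, R.Normal → R ≤ K → R = ⊥ := by
    intro R hR hRK
    by_contra hne
    have hev : ¬ (Nat.card R).Coprime 2 := fun h =>
      hne (le_bot_iff.1 (hO ▸ CfsgLib.Cores.le_pPrimeCore h))
    obtain ⟨x, hx⟩ := exists_prime_orderOf_dvd_card' 2
      (even_iff_two_dvd.1 (Nat.not_odd_iff_even.1 fun h => hev (Nat.coprime_two_right.2 h)))
    refine hnA (Subgroup.normalizer_eq_top_iff.1 (eq_top_iff.2 fun g _ => ?_))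
    refine key ((Subgroup.orderOf_coe x).trans hx) (hRK x.2) (hRK ?_)
    simpa using hR.conj_mem _ x.2 g⁻¹
  have hNt : Subgroup.centralizer ({t} : Set G) ≤ Subgroup.normalizer (A : Set G) := fun g hg => by
    refine key ht htA ?_
    rwa [mul_assoc, ← Subgroup.mem_centralizer_singleton_iff.mp hg, inv_mul_cancel_left]
  have hAt : A ≤ Subgroup.centralizer ({t} : Set G) := fun a ha =>
    Subgroup.mem_centralizer_singleton_iff.mpr (Subgroup.mem_centralizer_iff.mp htA a ha)
  have hAc : IsComponent (A.subgroupOf (Subgroup.centralizer ({t} : Set G))) :=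
    ⟨((Subgroup.normal_subgroupOf_iff_le_normalizer hAt).2 hNt).isSubnormal,
      (CfsgLib.Cores.isQuasisimple_subgroupOf hAt).2 hAq⟩
  have hL2 : pLayer 2 G = layer G := by
    refine le_antisymm (pLayer_le_layer (by rw [hO, Subgroup.commutator_bot_right]))
      (CfsgLib.Cores.layer_le_iff.2 fun L hL => CfsgLib.LBalance.le_pLayer
        (isPComponent_of_isComponent hL (CfsgLib.Balance.not_coprime_card_component hO hL)))
  obtain ⟨D, hD, hcase⟩ := component_trichotomy hsol hL2 ht hAt hAc
  have hself := CfsgLib.Cores.commutator_self_eq_of_isComponent hD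
  -- a component commuting with `D` and `A` would make `D` normalise `A`
  have hother : ∀ D₂ : Subgroup G, IsComponent D₂ → D₂ ≤ K →
      D₂ ≤ Subgroup.centralizer (D : Set G) → D ≤ Subgroup.normalizer (A : Set G) := by
    intro D₂ hD₂ h2K h2D d hd
    obtain ⟨x, hx⟩ := exists_prime_orderOf_dvd_card' 2 (even_iff_two_dvd.1
      (Nat.not_odd_iff_even.1 fun h => CfsgLib.Balance.not_coprime_card_component hO hD₂
        (Nat.coprime_two_right.2 h)))
    refine key ((Subgroup.orderOf_coe x).trans hx) (h2K x.2) ?_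
    rw [mul_assoc, ← Subgroup.mem_centralizer_iff.mp (h2D x.2) d hd, inv_mul_cancel_left]
    exact h2K x.2
  have hcenter : ∀ R : Subgroup G, R.Normal → R ≤ K → ∀ x ∈ R, x = 1 := fun R h1 h2 x hx =>
    Subgroup.mem_bot.1 ((hnormal R h1 h2).le hx)
  haveI hEn : (layer G).Normal := inferInstance
  have hZ : A ≤ layer G → layer G ⊓ Subgroup.centralizer (layer G : Set G) = ⊥ := fun h =>
    hnormal _ (inferInstanceAs (layer G ⊓ Subgroup.centralizer (layer G : Set G)).Normal)
      (inf_le_right.trans (Subgroup.centralizer_le h))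
  rcases hcase with rfl | ⟨hlt, -⟩ | ⟨hmov, hin, hout, -⟩
  · -- a component is normal
    exfalso
    refine hnA (Subgroup.normalizer_eq_top_iff.1 (eq_top_iff.2 fun g _ => ?_))
    by_contra hg
    have hne : A.map (MulAut.conj g).toMonoidHom ≠ A := fun h =>
      hg (Subgroup.mem_normalizer_iff_map_conj_eq.2 h)
    exact hnc g hne (CfsgLib.Cores.commutator_components_eq_bot hD
      (CfsgLib.Cores.isComponent_map_equiv hD (MulAut.conj g)) hne.symm)
  · right
    have hDn : ¬ D ≤ Subgroup.normalizer (A : Set G) := fun h => by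
      rcases CfsgLib.Balance.eq_or_le_centralizer_of_normalized hD hlt.le h with h' | h'
      · exact hlt.ne h'
      · refine CfsgLib.Cores.not_isSolvable_of_isQuasisimple hAq ?_
        haveI : IsMulCommutative ↥A := ⟨⟨fun a b => Subtype.ext
          (Subgroup.mem_centralizer_iff.mp (h' b.2) a (hlt.le a.2))⟩⟩
        exact isSolvable_of_isMulCommutative A
    have honly : layer G = D := by
      refine le_antisymm (CfsgLib.Cores.layer_le_iff.2 fun D₂ hD₂ => ?_)
        (CfsgLib.Cores.le_layer hD)
      by_contra hne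
      have hcc := CfsgLib.Cores.le_centralizer_of_isComponent_ne hD₂ hD fun h => hne h.le
      exact hDn (hother D₂ hD₂ (hcc.trans (Subgroup.centralizer_le hlt.le)) hcc)
    have hAE : A ≤ layer G := honly ▸ hlt.le
    have hsimp : Subgroup.center ↥(layer G) = ⊥ := by
      refine (Subgroup.eq_bot_iff_forall _).2 fun z hz => Subtype.ext ?_
      exact Subgroup.mem_bot.1 ((hZ hAE).le ⟨z.2, Subgroup.mem_centralizer_iff.mpr fun y hy =>
        congrArg Subtype.val (Subgroup.mem_center_iff.1 hz ⟨y, hy⟩)⟩)
    have hq : IsQuasisimple ↥(layer G) := honly.symm ▸ hD.2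
    refine ⟨hAE, ?_, fun h => CfsgLib.Cores.not_isSolvable_of_isQuasisimple hq ?_⟩
    · haveI := hq.2
      exact ((QuotientGroup.quotientMulEquivOfEq hsimp).trans
        QuotientGroup.quotientBot).symm.isSimpleGroup
    · haveI := h
      exact isSolvable_of_isMulCommutative _
  · left
    set D' := D.map (MulAut.conj t).toMonoidHom with hD'
    have hD'c : IsComponent D' := CfsgLib.Cores.isComponent_map_equiv hD (MulAut.conj t)
    have hDD : D ≤ Subgroup.centralizer (D' : Set G) :=
      CfsgLib.Cores.le_centralizer_of_isComponent_ne hD hD'c hmov.symm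
    have hmap : ∀ h ∈ D, t * h * t⁻¹ ∈ D' := fun h hh => ⟨h, hh, rfl⟩
    have hAE' : A ≤ D ⊔ D' := fun a ha => by
      obtain ⟨h, hh, rfl⟩ := hout a ha
      exact Subgroup.mul_mem_sup hh (hmap h hh)
    have hAE : A ≤ layer G :=
      hAE'.trans (sup_le (CfsgLib.Cores.le_layer hD) (CfsgLib.Cores.le_layer hD'c))
    have hDn : ¬ D ≤ Subgroup.normalizer (A : Set G) := by
      intro hn
      have hle : D ≤ A := by
        rw [← hself, Subgroup.commutator_le]
        intro d hd h hh
        have hc : ⁅d, h * (t * h * t⁻¹)⁆ = ⁅d, h⁆ := by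
          have e : (t * h * t⁻¹) * d⁻¹ = d⁻¹ * (t * h * t⁻¹) :=
            Subgroup.mem_centralizer_iff.mp (hDD (D.inv_mem hd)) _ (hmap h hh)
          rw [commutatorElement_def, commutatorElement_def]
          calc d * (h * (t * h * t⁻¹)) * d⁻¹ * (h * (t * h * t⁻¹))⁻¹
              = d * h * ((t * h * t⁻¹) * d⁻¹) * (t * h * t⁻¹)⁻¹ * h⁻¹ := by simp [mul_assoc]
            _ = _ := by rw [e]; simp [mul_assoc]
        rw [← hc, commutatorElement_def]
        exact A.mul_mem (conj_mem (hn hd) (hin h hh)) (A.inv_mem (hin h hh))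
      have hfix : ∀ d ∈ D, t * d * t⁻¹ = d := fun d hd => by
        rw [← Subgroup.mem_centralizer_singleton_iff.mp (hAt (hle hd)), mul_inv_cancel_right]
      apply hmov
      refine le_antisymm ?_ fun d hd => ⟨d, hd, hfix d hd⟩
      rintro _ ⟨d, hd, rfl⟩
      show t * d * t⁻¹ ∈ D
      rw [hfix d hd]
      exact hd
    have honly : layer G = D ⊔ D' := by
      refine le_antisymm (CfsgLib.Cores.layer_le_iff.2 fun D₂ hD₂ => ?_)
        (sup_le (CfsgLib.Cores.le_layer hD) (CfsgLib.Cores.le_layer hD'c))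
      by_contra hne
      have h1 := CfsgLib.Cores.le_centralizer_of_isComponent_ne hD₂ hD fun h =>
        hne (h.le.trans le_sup_left)
      have h2 := CfsgLib.Cores.le_centralizer_of_isComponent_ne hD₂ hD'c fun h =>
        hne (h.le.trans le_sup_right)
      refine hDn (hother D₂ hD₂ ?_ h1)
      refine le_trans ?_ (Subgroup.centralizer_le hAE')
      rw [CfsgLib.LBalance.centralizer_sup]
      exact le_inf h1 h2
    have hE1 : ∀ x ∈ layer G, x ∈ Subgroup.centralizer (layer G : Set G) → x = 1 :=
      fun x hx hxc => Subgroup.mem_bot.1 ((hZ hAE).le ⟨hx, hxc⟩)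
    have hcz : ∀ d ∈ D, d ∈ Subgroup.centralizer (D : Set G) → d = 1 := fun d hd hdc => by
      refine hE1 d (CfsgLib.Cores.le_layer hD hd) ?_
      rw [honly, CfsgLib.LBalance.centralizer_sup]
      exact ⟨hdc, hDD hd⟩
    have hdis : D ⊓ D' = ⊥ := (Subgroup.eq_bot_iff_forall _).2 fun x hx =>
      hcz x hx.1 (Subgroup.le_centralizer_iff.1 hDD hx.2)
    have hsimp : Subgroup.center ↥D = ⊥ := by
      refine (Subgroup.eq_bot_iff_forall _).2 fun z hz => Subtype.ext ?_
      exact hcz z z.2 (Subgroup.mem_centralizer_iff.mpr fun y hy =>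
        congrArg Subtype.val (Subgroup.mem_center_iff.1 hz ⟨y, hy⟩))
    have huniq : ∀ {u u' v v' : G}, u ∈ D → u' ∈ D → v ∈ D' → v' ∈ D' →
        u * v = u' * v' → u = u' := fun {u u' v v'} hu hu' hv hv' he => by
      have h1 : u'⁻¹ * u = v' * v⁻¹ := by
        rw [eq_mul_inv_iff_mul_eq, mul_assoc, he, inv_mul_cancel_left]
      have h2 : u'⁻¹ * u ∈ D ⊓ D' :=
        ⟨D.mul_mem (D.inv_mem hu') hu, h1 ▸ D'.mul_mem hv' (D'.inv_mem hv)⟩
      rw [hdis, Subgroup.mem_bot] at h2
      exact (inv_mul_eq_one.1 h2).symm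
    let φ : ↥D →* ↥A :=
      { toFun := fun h => ⟨h * (t * h * t⁻¹), hin h h.2⟩
        map_one' := Subtype.ext (by simp)
        map_mul' := fun a b => Subtype.ext (by
          have e : (t * a * t⁻¹) * (b : G) = b * (t * a * t⁻¹) :=
            Subgroup.mem_centralizer_iff.mp (hDD b.2) _ (hmap a a.2)
          show (a : G) * b * (t * (a * b) * t⁻¹) =
            a * (t * a * t⁻¹) * (b * (t * b * t⁻¹))
          calc (a : G) * b * (t * (a * b) * t⁻¹)
              = a * (b * (t * a * t⁻¹)) * (t * b * t⁻¹) := by simp [mul_assoc]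
            _ = _ := by rw [← e]; simp [mul_assoc]) }
    have hφ : Function.Bijective φ := by
      refine ⟨fun a b hab => Subtype.ext (huniq a.2 b.2 (hmap a a.2) (hmap b b.2)
        (congrArg Subtype.val hab)), fun a => ?_⟩
      obtain ⟨h, hh, he⟩ := hout a a.2
      exact ⟨⟨h, hh⟩, Subtype.ext he.symm⟩
    refine ⟨D, ?_, fun h => CfsgLib.Cores.not_isSolvable_of_isQuasisimple hD.2 ?_,
      ⟨MulEquiv.ofBijective φ hφ⟩, fun a ha b hb => (Subgroup.mem_centralizer_iff.mp
        (hDD ha) b hb).symm, hdis, honly.symm, ?_⟩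
    · haveI := hD.2.2
      exact ((QuotientGroup.quotientMulEquivOfEq hsimp).trans
        QuotientGroup.quotientBot).symm.isSimpleGroup
    · haveI := h
      exact isSolvable_of_isMulCommutative _
    refine le_antisymm ?_ (Subgroup.zpowers_le.2 htA)
    -- elements of `K` normalising `D` are trivial
    have hfixD : ∀ y ∈ K, y ∈ Subgroup.normalizer (D : Set G) → y = 1 := by
      intro y hy hyD
      have hKn : y ∈ Subgroup.normalizer (D' : Set G) := by
        have h1 : ∀ E : Subgroup G, IsComponent E → E = D ∨ E = D' := fun E hE => by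
          by_contra hne
          push Not at hne
          have h1 := CfsgLib.Cores.le_centralizer_of_isComponent_ne hE hD hne.1
          have h2 := CfsgLib.Cores.le_centralizer_of_isComponent_ne hE hD'c hne.2
          refine CfsgLib.Cores.ne_bot_of_isComponent hE ?_
          rw [← CfsgLib.Cores.commutator_self_eq_of_isComponent hE,
            Subgroup.commutator_eq_bot_iff_le_centralizer]
          refine le_trans ?_ (Subgroup.centralizer_le (CfsgLib.Cores.le_layer hE))
          rw [honly, CfsgLib.LBalance.centralizer_sup]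
          exact le_inf h1 h2
        refine Subgroup.mem_normalizer_iff_map_conj_eq.2 ?_
        rcases h1 _ (CfsgLib.Cores.isComponent_map_equiv hD'c (MulAut.conj y)) with h | h
        · exfalso
          refine hmov ?_
          have := h.trans (Subgroup.mem_normalizer_iff_map_conj_eq.1 hyD).symm
          exact Subgroup.map_injective (MulAut.conj y).injective this
        · exact h
      have hyc : y ∈ Subgroup.centralizer (D : Set G) :=
        Subgroup.mem_centralizer_iff.mpr fun h hh => by
          have hc := Subgroup.mem_centralizer_iff.mp hy _ (hin h hh)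
          have he : y * h * y⁻¹ * (y * (t * h * t⁻¹) * y⁻¹) = h * (t * h * t⁻¹) := by
            calc y * h * y⁻¹ * (y * (t * h * t⁻¹) * y⁻¹)
                = y * (h * (t * h * t⁻¹)) * y⁻¹ := by simp [mul_assoc]
              _ = _ := by rw [← hc, mul_inv_cancel_right]
          have := huniq (conj_mem hyD hh) hh (conj_mem hKn (hmap h hh)) (hmap h hh) he
          exact (mul_inv_eq_iff_eq_mul.1 this).symm
      have hyt : t * y * t⁻¹ ∈ K := Subgroup.mul_mem _ (Subgroup.mul_mem _ htA hy)
        (Subgroup.inv_mem _ htA)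
      have hyc' : y ∈ Subgroup.centralizer (D' : Set G) := Subgroup.mem_centralizer_iff.mpr (by
        rintro _ ⟨h, hh, rfl⟩
        show (t * h * t⁻¹) * y = y * (t * h * t⁻¹)
        have hc := Subgroup.mem_centralizer_iff.mp hy _ (hin h hh)
        have hc2 := Subgroup.mem_centralizer_iff.mp hyc h hh
        calc (t * h * t⁻¹) * y = h⁻¹ * (h * (t * h * t⁻¹) * y) := by simp [mul_assoc]
          _ = h⁻¹ * (y * (h * (t * h * t⁻¹))) := by rw [hc]
          _ = h⁻¹ * (y * h) * (t * h * t⁻¹) := by simp [mul_assoc]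
          _ = _ := by rw [← hc2, inv_mul_cancel_left])
      refine hcenter (Subgroup.centralizer (layer G : Set G)) inferInstance
        (Subgroup.centralizer_le hAE) y ?_
      rw [honly, CfsgLib.LBalance.centralizer_sup]
      exact ⟨hyc, hyc'⟩
    intro x hx
    by_cases hxD : x ∈ Subgroup.normalizer (D : Set G)
    · rw [hfixD x hx hxD]
      exact one_mem _
    have h1 : D.map (MulAut.conj x).toMonoidHom = D' := by
      have hc := CfsgLib.Cores.isComponent_map_equiv hD (MulAut.conj x)
      by_contra hne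
      have hxne : D.map (MulAut.conj x).toMonoidHom ≠ D := fun h =>
        hxD (Subgroup.mem_normalizer_iff_map_conj_eq.2 h)
      refine CfsgLib.Cores.ne_bot_of_isComponent hc ?_
      rw [← CfsgLib.Cores.commutator_self_eq_of_isComponent hc,
        Subgroup.commutator_eq_bot_iff_le_centralizer]
      refine le_trans ?_ (Subgroup.centralizer_le (CfsgLib.Cores.le_layer hc))
      rw [honly, CfsgLib.LBalance.centralizer_sup]
      exact le_inf (CfsgLib.Cores.le_centralizer_of_isComponent_ne hc hD hxne)
        (CfsgLib.Cores.le_centralizer_of_isComponent_ne hc hD'c hne)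
    have hxt : t * x ∈ Subgroup.normalizer (D : Set G) := by
      refine Subgroup.mem_normalizer_iff_map_conj_eq.2 ?_
      have : (MulAut.conj (t * x)).toMonoidHom =
          (MulAut.conj t).toMonoidHom.comp (MulAut.conj x).toMonoidHom := by
        ext z; simp [mul_assoc]
      show D.map (MulAut.conj (t * x)).toMonoidHom = D
      rw [this, ← Subgroup.map_map, h1, hD', map_conj_involution htt]
    have := hfixD (t * x) (Subgroup.mul_mem _ htA hx) hxt
    rw [eq_inv_of_mul_eq_one_right this]
    exact Subgroup.inv_mem _ (Subgroup.mem_zpowers t)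

end CfsgLib.Signalizer
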