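import Cfsg.Agent.Lib.Signalizer.CoreSeparatedFunctor
import Cfsg.Agent.Lib.Balance.PComponents

/-!
Failure of balance produces an unbalancing triple.
-/

set_option autoImplicit false
set_option linter.style.haveILetI false

namespace CfsgLib.Signalizer.Unbalancing

open Cfsg CfsgLib.CoprimeAction CfsgLib.Signalizer.CoprimeGen

universe u

variable {G : Type u} [Group G] [Finite G]

theorem exists_unbalancing {a x : G} (hx : orderOf x = 2) (hax : a * x = x * a)
    (hD : ¬ centralizerPPrimeCore 2 x ⊓ Subgroup.centralizer ({a} : Set G) ≤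
      centralizerPPrimeCore 2 a) :
    ∃ L : Subgroup ↥(Subgroup.centralizer ({a} : Set G)), IsPComponent 2 L ∧
      (∀ l ∈ L.map (Subgroup.centralizer ({a} : Set G)).subtype,
        x * l * x⁻¹ ∈ L.map (Subgroup.centralizer ({a} : Set G)).subtype) ∧
      L.map (Subgroup.centralizer ({a} : Set G)).subtype =
        (oddCore ↥L).map ((Subgroup.centralizer ({a} : Set G)).subtype.comp L.subtype) ⊔
          ⁅L.map (Subgroup.centralizer ({a} : Set G)).subtype,
            centralizerPPrimeCore 2 x ⊓ Subgroup.centralizer ({a} : Set G)⁆ := by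
  haveI : Fact (Nat.Prime 2) := ⟨Nat.prime_two⟩
  set C := Subgroup.centralizer ({a} : Set G) with hC
  have hxC : x ∈ C := Subgroup.mem_centralizer_singleton_iff.2 hax.symm
  have hxx : x * x = 1 := by
    have h := pow_orderOf_eq_one x
    rwa [hx, pow_two] at h
  have hx1 : x ≠ 1 := fun h => by rw [h, orderOf_one] at hx; omega
  set π := QuotientGroup.mk' (pPrimeCore 2 ↥C) with hπ
  set D := (centralizerPPrimeCore 2 x).subgroupOf C with hDdef
  have hO := CfsgLib.Cores.pPrimeCore_quotient_pPrimeCore (G := ↥C) 2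
  obtain ⟨y, hy, hya⟩ := SetLike.not_le_iff_exists.1 hD
  obtain ⟨F, hF, hyF⟩ : ∃ F : Subgroup (↥C ⧸ pPrimeCore 2 ↥C), IsComponent F ∧
      π ⟨y, hy.2⟩ ∉ Subgroup.centralizer (F : Set (↥C ⧸ pPrimeCore 2 ↥C)) := by
    by_contra! hcon
    exact hya ⟨⟨y, hy.2⟩, CoreSep.mem_core_of_components hxC hxx hx1 hy.1 hcon, rfl⟩
  set xb := π ⟨x, hxC⟩ with hxb
  have hxb2 : orderOf xb = 2 := CoreSep.orderOf_image hxC hxx hx1
  have hDb : D.map π ≤ centralizerPPrimeCore 2 xb := CoreSep.map_core_le hxC hxx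
  have hFx : ⁅F, Subgroup.zpowers xb⁆ = F := by
    by_contra hne
    refine hyF ?_
    have h := CfsgLib.Balance.commutator_component_core_eq_bot hO hxb2 hF hne
    exact Subgroup.le_centralizer_iff.1 (Subgroup.commutator_eq_bot_iff_le_centralizer.1 h)
      (hDb (Subgroup.mem_map_of_mem π (show (⟨y, hy.2⟩ : ↥C) ∈ D from hy.1)))
  have hxbF : xb ∈ Subgroup.normalizer (F : Set (↥C ⧸ pPrimeCore 2 ↥C)) := by
    rw [← hFx]
    exact (le_sup_right.trans (CfsgLib.CoprimeAction.sup_le_normalizer_commutator _ _))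
      (Subgroup.mem_zpowers xb)
  have hDF : D.map π ≤ Subgroup.normalizer (F : Set (↥C ⧸ pPrimeCore 2 ↥C)) :=
    hDb.trans (CfsgLib.Balance.centralizerPPrimeCore_le_normalizer_component hO hxb2 hF)
  obtain ⟨L, hL, hLF⟩ : ∃ L : Subgroup ↥C, IsPComponent 2 L ∧ L.map π = F :=
    ⟨_, (CfsgLib.LBalance.isPComponent_pElemClosure hF).1,
      (CfsgLib.LBalance.isPComponent_pElemClosure hF).2⟩
  have hnorm : ∀ g : ↥C, π g ∈ Subgroup.normalizer (F : Set (↥C ⧸ pPrimeCore 2 ↥C)) →
      g ∈ Subgroup.normalizer (L : Set ↥C) := by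
    intro g hg
    rw [CfsgLib.LBalance.isPComponent_eq hL, hLF]
    exact CfsgLib.LBalance.normalizer_le_normalizer_pElemClosure _
      (Subgroup.le_normalizer_comap _ (Subgroup.mem_comap.2 hg))
  have hDL : D ≤ Subgroup.normalizer (L : Set ↥C) := fun d hd =>
    hnorm d (hDF (Subgroup.mem_map_of_mem π hd))
  refine ⟨L, hL, ?_, ?_⟩
  · rintro _ ⟨l, hl, rfl⟩
    exact ⟨⟨x, hxC⟩ * l * (⟨x, hxC⟩ : ↥C)⁻¹,
      (Subgroup.mem_normalizer_iff.1 (hnorm _ hxbF) l).1 hl, rfl⟩
  have hML : ⁅L, D⁆ ≤ L := CfsgLib.CoprimeAction.commutator_le_left hDL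
  have hMF : (⁅L, D⁆).map π = F := by
    rw [Subgroup.map_commutator, hLF]
    refine (CfsgLib.Balance.eq_or_le_centralizer_of_normalized hF
      (CfsgLib.CoprimeAction.commutator_le_left hDF)
      (le_sup_left.trans (CfsgLib.CoprimeAction.sup_le_normalizer_commutator _ _))).resolve_right ?_
    intro hc
    have h := CfsgLib.Balance.commutator_eq_bot_of_le_centralizer
      (CfsgLib.Cores.commutator_self_eq_of_isComponent hF) hc
    exact hyF (Subgroup.le_centralizer_iff.1 (Subgroup.commutator_eq_bot_iff_le_centralizer.1 h)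
      (Subgroup.mem_map_of_mem π (show (⟨y, hy.2⟩ : ↥C) ∈ D from hy.1)))
  have hkey : L = (oddCore ↥L).map L.subtype ⊔ ⁅L, D⁆ := by
    refine le_antisymm (fun l hl => ?_) (sup_le (Subgroup.map_subtype_le _) hML)
    obtain ⟨m, hm, hml⟩ : π l ∈ (⁅L, D⁆).map π := by
      rw [hMF, ← hLF]; exact Subgroup.mem_map_of_mem π hl
    have ho : l * m⁻¹ ∈ pPrimeCore 2 ↥C := by
      refine (QuotientGroup.eq_one_iff _).1 ?_
      show π (l * m⁻¹) = 1
      rw [map_mul, map_inv, hml, mul_inv_cancel]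
    have hoL : l * m⁻¹ ∈ L := mul_mem hl (inv_mem (hML hm))
    have hmem : l * m⁻¹ ∈ (oddCore ↥L).map L.subtype := by
      refine ⟨⟨_, hoL⟩, ?_, rfl⟩
      rw [show oddCore ↥L = _ from CfsgLib.Balance.pPrimeCore_subgroupOf hL.1]
      exact ho
    simpa using Subgroup.mul_mem_sup hmem hm
  conv_lhs => rw [hkey]
  rw [Subgroup.map_sup, Subgroup.map_map, Subgroup.map_commutator, hDdef,
    Subgroup.subgroupOf_map_subtype]

end CfsgLib.Signalizer.Unbalancing
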